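import Mathlib.CategoryTheory.Sites.ConstantSheaf
import Mathlib.CategoryTheory.Sites.LocallyBijective
import Mathlib.CategoryTheory.Sites.Over
import Mathlib.Algebra.Category.ModuleCat.Basic

/-! Being constant over an object of a site, in terms of sections: generic criteria. -/

universe w v u r

open CategoryTheory Limits Opposite

noncomputable section

set_option backward.isDefEq.respectTransparency false
set_option backward.isDefEq.respectTransparency.types false

namespace Groth.Agent.EtModLib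

variable {C : Type u} [Category.{v} C] {J : GrothendieckTopology C} {Λ : Type r} [CommRing Λ]
  (H : Sheaf J (ModuleCat.{w} Λ))

/-- A family of sections over `U` exhibits `H` as constant over `U`. -/
structure ConstAt {U : C} {M : ModuleCat.{w} Λ} (φ : M ⟶ H.obj.obj (op U)) : Prop where
  inj : ∀ ⦃T : C⦄ (t : T ⟶ U) (m : M), H.obj.map t.op (φ m) = 0 → m ≠ 0 → ⊥ ∈ J T
  surj : ∀ ⦃T : C⦄ (t : T ⟶ U) (s : H.obj.obj (op T)), ∃ R ∈ J T, ∀ ⦃T' : C⦄ (g : T' ⟶ T), R g →
    ∃ m : M, H.obj.map g.op s = H.obj.map (g ≫ t).op (φ m)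

variable {H}

theorem map_map {T T' U : C} (g : T' ⟶ T) (t : T ⟶ U) (x : H.obj.obj (op U)) :
    H.obj.map g.op (H.obj.map t.op x) = H.obj.map (g ≫ t).op x := by
  rw [op_comp, Functor.map_comp]; rfl

theorem subsingleton_of_bot {T : C} (h : ⊥ ∈ J T) [J.HasSheafCompose (CategoryTheory.forget (ModuleCat.{w} Λ))] :
    ∀ x y : H.obj.obj (op T), x = y := fun x y =>
  (((isSheaf_iff_isSheaf_of_type _ _).1
    ((sheafCompose J (CategoryTheory.forget (ModuleCat.{w} Λ))).obj H).property) _ h).isSeparatedFor.ext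
    fun _ _ hf => hf.elim

/-- equality is local -/
theorem eq_of_sieve [J.HasSheafCompose (CategoryTheory.forget (ModuleCat.{w} Λ))] {T : C} {R : Sieve T}
    (hR : R ∈ J T) {x y : H.obj.obj (op T)}
    (h : ∀ ⦃T' : C⦄ (g : T' ⟶ T), R g → H.obj.map g.op x = H.obj.map g.op y) : x = y :=
  (((isSheaf_iff_isSheaf_of_type _ _).1
    ((sheafCompose J (CategoryTheory.forget (ModuleCat.{w} Λ))).obj H).property) _ hR).isSeparatedFor.ext h

theorem ConstAt.injective {U : C} {M : ModuleCat.{w} Λ} {φ : M ⟶ H.obj.obj (op U)} (hφ : ConstAt H φ)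
    {T : C} (t : T ⟶ U) (hT : ¬ ⊥ ∈ J T) : Function.Injective fun m => H.obj.map t.op (φ m) := by
  intro a b hab
  by_contra hne
  refine hT (hφ.inj t (a - b) ?_ (sub_ne_zero.2 hne))
  rw [map_sub, map_sub]
  exact sub_eq_zero.2 hab

theorem ConstAt.restrict {U U' : C} {M : ModuleCat.{w} Λ} {φ : M ⟶ H.obj.obj (op U)} (hφ : ConstAt H φ)
    (a : U' ⟶ U) : ConstAt H (φ ≫ H.obj.map a.op) where
  inj T t m h hm := hφ.inj (t ≫ a) m ((map_map t a (φ m)).symm.trans h) hm
  surj T t s := by
    obtain ⟨R, hR, hR'⟩ := hφ.surj (t ≫ a) s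
    refine ⟨R, hR, fun T' g hg => ?_⟩
    obtain ⟨m, hm⟩ := hR' g hg
    refine ⟨m, hm.trans ?_⟩
    rw [← Category.assoc]
    exact (map_map (g ≫ t) a (φ m)).symm

theorem ConstAt.of_sieve {U : C} {M : ModuleCat.{w} Λ} {φ : M ⟶ H.obj.obj (op U)} {S : Sieve U} (hS : S ∈ J U)
    (h : ∀ ⦃U' : C⦄ (a : U' ⟶ U), S a → ConstAt H (φ ≫ H.obj.map a.op)) : ConstAt H φ where
  inj T t m hm hne := by
    refine J.transitive (J.pullback_stable t hS) ⊥ fun T' g hg => ?_
    refine J.superset_covering bot_le ((h (g ≫ t) hg).inj (𝟙 T') m ?_ hne)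
    change H.obj.map (𝟙 T').op (H.obj.map (g ≫ t).op (φ m)) = 0
    rw [map_map, Category.id_comp, ← map_map, hm, map_zero]
  surj T t s := by
    let R : Sieve T :=
      { arrows := fun T' g => ∃ m : M, H.obj.map g.op s = H.obj.map (g ≫ t).op (φ m)
        downward_closed := by
          rintro Y Z g ⟨m, hm⟩ k
          exact ⟨m, by rw [← map_map k g, hm, map_map, Category.assoc]⟩ }
    refine ⟨R, J.transitive (J.pullback_stable t hS) R fun T' g hg => ?_, fun _ _ h => h⟩
    obtain ⟨R', hR', hR''⟩ := (h (g ≫ t) hg).surj (𝟙 T') (H.obj.map g.op s)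
    refine J.superset_covering (fun Y k hk => ?_) hR'
    obtain ⟨m, hm⟩ := hR'' k hk
    refine ⟨m, (map_map k g s).symm.trans (hm.trans ?_)⟩
    change H.obj.map (k ≫ 𝟙 T').op (H.obj.map (g ≫ t).op (φ m)) = _
    rw [map_map, Category.comp_id, Category.assoc]

theorem ConstAt.congr {U : C} {M M' : ModuleCat.{w} Λ} {φ : M ⟶ H.obj.obj (op U)} (hφ : ConstAt H φ)
    {ψ : M' ⟶ H.obj.obj (op U)} (h : M' ⟶ M) (hb : Function.Bijective h) (e : ∀ m, ψ m = φ (h m)) :
    ConstAt H ψ where
  inj T t m hm hne := hφ.inj t (h m) (by rw [← e]; exact hm) fun h0 => hne (hb.1 (h0.trans (map_zero h.hom).symm))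
  surj T t s := by
    obtain ⟨R, hR, hR'⟩ := hφ.surj t s
    refine ⟨R, hR, fun T' g hg => ?_⟩
    obtain ⟨m, hm⟩ := hR' g hg
    obtain ⟨m', rfl⟩ := hb.2 m
    exact ⟨m', by rw [e]; exact hm⟩

theorem constAt_of_bot [J.HasSheafCompose (CategoryTheory.forget (ModuleCat.{w} Λ))] {U : C}
    {M : ModuleCat.{w} Λ} (φ : M ⟶ H.obj.obj (op U)) (h : ⊥ ∈ J U) : ConstAt H φ where
  inj T t _ _ _ := J.superset_covering bot_le (J.pullback_stable t h)
  surj T t s := ⟨⊥, J.superset_covering bot_le (J.pullback_stable t h), fun _ _ hg => hg.elim⟩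

section Iso

variable (H) (U : C) [HasWeakSheafify (J.over U) (ModuleCat.{w} Λ)]
  [(J.over U).WEqualsLocallyBijective (ModuleCat.{w} Λ)] {M : ModuleCat.{w} Λ}

omit [HasWeakSheafify (J.over U) (ModuleCat.{w} Λ)] [(J.over U).WEqualsLocallyBijective (ModuleCat.{w} Λ)] in
/-- the map from the constant presheaf given by a family of sections -/
def preConst (φ : M ⟶ H.obj.obj (op U)) : (Functor.const (Over U)ᵒᵖ).obj M ⟶ (H.over U).obj where
  app W := φ ≫ H.obj.map W.unop.hom.op
  naturality W W' g := by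
    refine (Category.id_comp _).trans ?_
    show φ ≫ H.obj.map W'.unop.hom.op = (φ ≫ H.obj.map W.unop.hom.op) ≫ H.obj.map g.unop.left.op
    rw [Category.assoc, ← Functor.map_comp, ← op_comp, Over.w]

variable {H U}

theorem nonempty_iso_of_constAt {φ : M ⟶ H.obj.obj (op U)} (h : ConstAt H φ) :
    Nonempty (H.over U ≅ (constantSheaf (J.over U) (ModuleCat.{w} Λ)).obj M) := by
  let η := preConst H U φ
  have hi : Presheaf.IsLocallyInjective (J.over U) η := ⟨fun {W} m m' e => by
    by_cases hm : (m : M) = m'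
    · subst hm
      rw [Presheaf.equalizerSieve_self_eq_top]
      exact (J.over U).top_mem _
    · have e' : H.obj.map W.unop.hom.op (φ m) = H.obj.map W.unop.hom.op (φ m') := e
      have hbot := h.inj W.unop.hom (m - m') (by rw [map_sub, map_sub]; exact sub_eq_zero.2 e') (sub_ne_zero.2 hm)
      rw [GrothendieckTopology.mem_over_iff]
      exact J.superset_covering bot_le hbot⟩
  have hs : Presheaf.IsLocallySurjective (J.over U) η := ⟨fun {W} s => by
    rw [GrothendieckTopology.mem_over_iff]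
    obtain ⟨R, hR, hR'⟩ := h.surj W.hom s
    refine J.superset_covering (fun T' g hg => ?_) hR
    rw [Sieve.overEquiv_iff]
    obtain ⟨m, hm⟩ := hR' g hg
    exact ⟨m, hm.symm⟩⟩
  have : IsIso ((presheafToSheaf (J.over U) _).map η) := by
    have hW : (J.over U).W η := ((J.over U).W_iff_isLocallyBijective η).2 ⟨hi, hs⟩
    rwa [(J.over U).W_iff] at hW
  exact ⟨(asIso ((presheafToSheaf (J.over U) _).map η ≫
    (sheafificationAdjunction (J.over U) _).counit.app (H.over U))).symm⟩

theorem exists_constAt_of_iso (e : H.over U ≅ (constantSheaf (J.over U) (ModuleCat.{w} Λ)).obj M) :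
    ∃ φ : M ⟶ H.obj.obj (op U), ConstAt H φ := by
  let P := (Functor.const (Over U)ᵒᵖ).obj M
  let η : P ⟶ (H.over U).obj := toSheafify (J.over U) P ≫ e.inv.hom
  have hW : (J.over U).W η :=
    MorphismProperty.comp_mem _ _ _ ((J.over U).W_toSheafify P)
      ((J.over U).W.of_isIso ((sheafToPresheaf _ _).map e.inv))
  obtain ⟨hi, hs⟩ := ((J.over U).W_iff_isLocallyBijective η).1 hW
  let φ : M ⟶ H.obj.obj (op U) := η.app (op (Over.mk (𝟙 U)))
  have key : ∀ ⦃T : C⦄ (t : T ⟶ U) (m : M), η.app (op (Over.mk t)) m = H.obj.map t.op (φ m) := fun T t m =>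
    NatTrans.naturality_apply η (Over.homMk t (Category.comp_id t) : Over.mk t ⟶ Over.mk (𝟙 U)).op m
  refine ⟨φ, fun T t m hm hne => ?_, fun T t s => ?_⟩
  · have h0 : η.app (op (Over.mk t)) m = η.app (op (Over.mk t)) (0 : M) := by
      rw [key, key]
      exact hm.trans (by rw [map_zero, map_zero])
    have h1 := hi.equalizerSieve_mem (X := op (Over.mk t)) (x := m) (y := (0 : M)) h0
    rw [GrothendieckTopology.mem_over_iff] at h1
    refine J.superset_covering (fun T' g hg => ?_) h1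
    rw [Sieve.overEquiv_iff] at hg
    exact absurd hg hne
  · have h1 := hs.imageSieve_mem (U := Over.mk t) s
    rw [GrothendieckTopology.mem_over_iff] at h1
    refine ⟨_, h1, fun T' g hg => ?_⟩
    rw [Sieve.overEquiv_iff] at hg
    obtain ⟨m, hm⟩ := hg
    exact ⟨m, hm.symm.trans (key (g ≫ t) m)⟩

end Iso

end Groth.Agent.EtModLib
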