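import Groth.Prelude.Def_EtModW
import Groth.Agent.EtModLib.PLC.ConstAt
import Groth.Agent.ProEtLib.EpsUnit

/-! Locally constant sheaves of modules on the small pro-etale site: sectionwise description. -/

universe u

open CategoryTheory CategoryTheory.Limits AlgebraicGeometry Opposite

noncomputable section

set_option backward.isDefEq.respectTransparency false
set_option backward.isDefEq.respectTransparency.types false

namespace Groth.Agent.EtModLib

open ProEtLib

variable {Λ : Type (u + 1)} [CommRing Λ] {X : Scheme.{u}}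

theorem nonempty_not_bot {T : X.ProEt} (z : T.left) : ¬ ⊥ ∈ Scheme.ProEt.topology X T := fun h => by
  obtain ⟨V, g, v, hg, -⟩ := exists_hit h z
  exact hg.elim

theorem isEmpty_of_bot {T : X.ProEt} (h : ⊥ ∈ Scheme.ProEt.topology X T) : IsEmpty T.left :=
  ⟨fun z => nonempty_not_bot z h⟩

theorem bot_of_isEmpty (T : X.ProEt) (h : IsEmpty T.left) : ⊥ ∈ Scheme.ProEt.topology X T :=
  Scheme.ProEt.bot_mem_topology T

theorem sieve_hit {U : X.ProEt} {R : Sieve U} (hR : R ∈ Scheme.ProEt.topology X U) (x : U.left) :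
    ∃ (V : X.ProEt) (g : V ⟶ U) (v : V.left), R g ∧ g.left.base v = x :=
  exists_hit hR x

/-- images of etale covering sieves cover -/
theorem eps_pushforward_mem {V : X.Etale} {R : Sieve V} (hR : R ∈ X.smallEtaleTopology V) :
    R.functorPushforward (ProEtS.eps X) ∈ Scheme.ProEt.topology X ((ProEtS.eps X).obj V) := by
  rw [EtFound.mem_topology_iff] at hR
  choose W g v hg hv using hR
  refine mem_topology_of_etale (fun x => (ProEtS.eps X).obj (W x))
    (fun x => (ProEtS.eps X).map (g x)) (fun x => EtFound.etale_left (g x))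
    (fun x => ⟨x, v x, hv x⟩) fun x => ?_
  exact Sieve.image_mem_functorPushforward _ _ (hg x)

theorem ConstAt.eq_of_point {G : EtModW.ModP Λ X} {U T : X.ProEt} {M : ModuleCat.{u + 1} Λ}
    {φ : M ⟶ G.obj.obj (op U)} (hφ : ConstAt G φ) (t : T ⟶ U) (z : T.left) {m m' : M}
    (h : G.obj.map t.op (φ m) = G.obj.map t.op (φ m')) : m = m' :=
  hφ.injective t (nonempty_not_bot z) h

/-- `G` is locally constant of finite presentation, sectionwise -/
def LC (G : EtModW.ModP Λ X) : Prop :=
  ∀ T : X.ProEt, ∃ R ∈ Scheme.ProEt.topology X T, ∀ ⦃T' : X.ProEt⦄ (f : T' ⟶ T), R f →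
    ∃ (M : ModuleCat.{u + 1} Λ) (φ : M ⟶ G.obj.obj (op T')), Module.FinitePresentation Λ M ∧ ConstAt G φ

theorem lc_of_isFPLocConstP {G : EtModW.ModP Λ X} (h : EtModW.IsFPLocConstP Λ G) : LC G := by
  obtain ⟨ι, U, hU, hU'⟩ := h
  intro T
  let top : T ⟶ ProEtS.topP X := MorphismProperty.Over.homMk T.hom (Category.comp_id _)
  refine ⟨_, (Scheme.ProEt.topology X).pullback_stable top hU, fun T' f hf => ?_⟩
  obtain ⟨Z, a, b, ⟨i⟩, -⟩ := hf
  obtain ⟨M, _, _, hM, ⟨e⟩⟩ := hU' i
  obtain ⟨φ, hφ⟩ := exists_constAt_of_iso e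
  exact ⟨ModuleCat.of Λ M, φ ≫ G.obj.map a.op, hM, hφ.restrict a⟩

theorem coversP_eps {ι : Type u} {U : ι → X.Etale} (hU : EtCoh.Covers U) :
    EtModW.CoversP fun i => (ProEtS.eps X).obj (U i) := by
  refine mem_topology_of_etale (fun i => (ProEtS.eps X).obj (U i))
    (fun i => MorphismProperty.Over.homMk (U i).hom (Category.comp_id _)) (fun i => (U i).prop)
    (fun x => ?_) fun i => Sieve.ofArrows_mk _ _ i
  obtain ⟨i, y, hy⟩ := hU x
  exact ⟨i, y, hy⟩

end Groth.Agent.EtModLib
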