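import Groth.Agent.EtModLib.PLC.Locus

/-! Gluing sections along covering families. -/

universe u

open CategoryTheory CategoryTheory.Limits AlgebraicGeometry Opposite

noncomputable section

set_option backward.isDefEq.respectTransparency false
set_option backward.isDefEq.respectTransparency.types false

namespace Groth.Agent.EtModLib

open ProEtLib

variable {Λ : Type (u + 1)} [CommRing Λ] {X : Scheme.{u}}

theorem exists_glue_proEt (G : EtModW.ModP Λ X) {T : X.ProEt} {ι : Type*} (P : ι → X.ProEt) (p : ∀ i, P i ⟶ T)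
    (hcov : Sieve.generate (Presieve.ofArrows P p) ∈ Scheme.ProEt.topology X T)
    (x : ∀ i, G.obj.obj (op (P i)))
    (h : ∀ i k (Z : X.ProEt) (a : Z ⟶ P i) (b : Z ⟶ P k), a ≫ p i = b ≫ p k →
      G.obj.map a.op (x i) = G.obj.map b.op (x k)) :
    ∃ y, ∀ i, G.obj.map (p i).op y = x i := by
  have hsh : Presieve.IsSheafFor (G.obj ⋙ CategoryTheory.forget (ModuleCat.{u + 1} Λ))
      (Presieve.ofArrows P p) := by
    rw [Presieve.isSheafFor_iff_generate]
    exact (isSheaf_iff_isSheaf_of_type _ _).1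
      ((sheafCompose (Scheme.ProEt.topology X) (CategoryTheory.forget (ModuleCat.{u + 1} Λ))).obj G).property _ hcov
  obtain ⟨y, hy, -⟩ := (Presieve.isSheafFor_arrows_iff _ _).1 hsh x fun i k Z a b hab => h i k Z a b hab
  exact ⟨y, hy⟩

/-- the inclusion of an open into an open containing its image -/
def opMap {U V : X.ProEt} (f : U ⟶ V) (W : U.left.Opens) (W' : V.left.Opens)
    (h : W ≤ f.left ⁻¹ᵁ W') : opObj U W ⟶ opObj V W' :=
  MorphismProperty.Over.homMk (f.left.resLE W' W h) (by
    change f.left.resLE W' W h ≫ W'.ι ≫ V.hom = W.ι ≫ U.hom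
    rw [Scheme.Hom.resLE_comp_ι_assoc]
    exact congrArg (W.ι ≫ ·) (MorphismProperty.Over.w f))

theorem opMap_comp {U V : X.ProEt} (f : U ⟶ V) (W : U.left.Opens) (W' : V.left.Opens)
    (h : W ≤ f.left ⁻¹ᵁ W') : opMap f W W' h ≫ opHom V W' = opHom U W ≫ f :=
  MorphismProperty.Over.Hom.ext (Scheme.Hom.resLE_comp_ι _ _)

end Groth.Agent.EtModLib
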