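import Groth.Agent.ProEtLib.Basic
import Groth.Agent.ProEtLib.WC
import Mathlib.AlgebraicGeometry.AffineTransitionLimit

/-! Cofiltered systems of affine objects of the small pro-etale site and their pullbacks. -/

universe u

open CategoryTheory CategoryTheory.Limits AlgebraicGeometry Opposite

noncomputable section

set_option backward.isDefEq.respectTransparency false
set_option backward.isDefEq.respectTransparency.types false

namespace Groth.Agent.EtModLib

open ProEtLib

variable {X : Scheme.{u}}

section Pullback

variable {W U V : X.ProEt} (w : W ⟶ U) (v : V ⟶ U)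

theorem weaklyEtale_pbFst : WeaklyEtale (pullback.fst w.left v.left ≫ W.hom) := by
  have := weaklyEtale_left v
  have : WeaklyEtale W.hom := W.prop
  infer_instance

/-- fibre product in the small pro-etale site -/
def pbObj : X.ProEt :=
  haveI := weaklyEtale_pbFst w v
  Scheme.ProEt.mk (pullback.fst w.left v.left ≫ W.hom)

/-- first projection -/
def pbFst : pbObj w v ⟶ W := MorphismProperty.Over.homMk (pullback.fst w.left v.left)

/-- second projection -/
def pbSnd : pbObj w v ⟶ V := MorphismProperty.Over.homMk (pullback.snd w.left v.left) (by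
  change pullback.snd w.left v.left ≫ V.hom = pullback.fst w.left v.left ≫ W.hom
  rw [← MorphismProperty.Over.w v, ← MorphismProperty.Over.w w, pullback.condition_assoc])

@[reassoc]
theorem pb_condition : pbFst w v ≫ w = pbSnd w v ≫ v :=
  MorphismProperty.Over.Hom.ext pullback.condition

variable {w v}

/-- maps into the fibre product -/
def pbLift {T : X.ProEt} (a : T ⟶ W) (b : T ⟶ V) (h : a ≫ w = b ≫ v) : T ⟶ pbObj w v :=
  MorphismProperty.Over.homMk (pullback.lift a.left b.left (congrArg (fun f => f.left) h)) (by
    change pullback.lift a.left b.left _ ≫ pullback.fst w.left v.left ≫ W.hom = _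
    rw [pullback.lift_fst_assoc]
    exact MorphismProperty.Over.w a)

@[reassoc (attr := simp)]
theorem pbLift_fst {T : X.ProEt} (a : T ⟶ W) (b : T ⟶ V) (h : a ≫ w = b ≫ v) :
    pbLift a b h ≫ pbFst w v = a :=
  MorphismProperty.Over.Hom.ext (pullback.lift_fst _ _ _)

@[reassoc (attr := simp)]
theorem pbLift_snd {T : X.ProEt} (a : T ⟶ W) (b : T ⟶ V) (h : a ≫ w = b ≫ v) :
    pbLift a b h ≫ pbSnd w v = b :=
  MorphismProperty.Over.Hom.ext (pullback.lift_snd _ _ _)

theorem pb_hom_ext {T : X.ProEt} {a b : T ⟶ pbObj w v} (h₁ : a ≫ pbFst w v = b ≫ pbFst w v)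
    (h₂ : a ≫ pbSnd w v = b ≫ pbSnd w v) : a = b :=
  MorphismProperty.Over.Hom.ext (pullback.hom_ext (congrArg (fun f => f.left) h₁) (congrArg (fun f => f.left) h₂))

theorem isAffine_pbObj [IsAffine W.left] [IsAffine U.left] [IsAffine V.left] : IsAffine (pbObj w v).left :=
  inferInstanceAs (IsAffine (pullback w.left v.left))

theorem exists_pbObj_point (a : W.left) (b : V.left) (h : w.left.base a = v.left.base b) :
    ∃ z : (pbObj w v).left, (pbFst w v).left.base z = a ∧ (pbSnd w v).left.base z = b :=
  Scheme.Pullback.exists_preimage_pullback (f := w.left) (g := v.left) a b h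

end Pullback

variable {I : Type u} [SmallCategory I] [IsCofiltered I] (D : I ⥤ X.ProEt)

/-- the underlying diagram of schemes -/
abbrev sch : I ⥤ Scheme.{u} := D ⋙ Scheme.ProEt.forget X ⋙ CategoryTheory.Over.forget X

/-- the underlying cone of schemes -/
abbrev schCone {D : I ⥤ X.ProEt} (c : Cone D) : Cone (sch D) :=
  (Scheme.ProEt.forget X ⋙ CategoryTheory.Over.forget X).mapCone c

variable {D} (c : Cone D) {i : I} {W : X.ProEt} (w : W ⟶ D.obj i)

/-- the pulled back system -/
def pbSys : CategoryTheory.Over i ⥤ X.ProEt where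
  obj a := pbObj w (D.map a.hom)
  map {a b} h := pbLift (pbFst w (D.map a.hom)) (pbSnd w (D.map a.hom) ≫ D.map h.left) (by
    rw [pb_condition, Category.assoc, ← Functor.map_comp, CategoryTheory.Over.w h])
  map_id a := pb_hom_ext (by simp) (by simp)
  map_comp {a b e} g h := pb_hom_ext (by simp) (by simp)

/-- its cone -/
def pbCone : Cone (pbSys (D := D) w) where
  pt := pbObj w (c.π.app i)
  π :=
    { app := fun a => pbLift (pbFst w (c.π.app i)) (pbSnd w (c.π.app i) ≫ c.π.app a.left) (by
        rw [pb_condition, Category.assoc, c.w])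
      naturality := fun a b h => pb_hom_ext (by simp [pbSys]) (by simp [pbSys]) }

variable {c}

theorem nonempty_isLimit_pbCone (hc : IsLimit (schCone c)) :
    Nonempty (IsLimit (schCone (pbCone c w))) := by
  haveI : IsConnected (CategoryTheory.Over i) := isConnected_of_hasTerminal _
  let α : sch (pbSys (D := D) w) ⟶ CategoryTheory.Over.forget i ⋙ sch D :=
    { app := fun a => (pbSnd w (D.map a.hom)).left
      naturality := fun a b h => pullback.lift_snd _ _ _ }
  refine ⟨isLimitOfIsPullbackOfIsConnected α (schCone (pbCone c w))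
    ((schCone c).whisker (CategoryTheory.Over.forget i))
    { hom := (pbSnd w (c.π.app i)).left
      w := fun a => (pullback.lift_snd _ _ _).symm }
    (fun a => ?_) ((Functor.Initial.isLimitWhiskerEquiv (CategoryTheory.Over.forget i) (schCone c)).symm hc)⟩
  refine IsPullback.of_right (h₁₂ := pullback.fst w.left (D.map a.hom).left) (h₂₂ := (D.map a.hom).left)
    (v₁₃ := w.left) ?_ ?_ (IsPullback.of_hasPullback w.left (D.map a.hom).left)
  · have e1 : ((pbCone c w).π.app a).left ≫ pullback.fst w.left (D.map a.hom).left =
        pullback.fst w.left (c.π.app i).left := pullback.lift_fst _ _ _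
    have e2 : (c.π.app a.left).left ≫ (D.map a.hom).left = (c.π.app i).left :=
      congrArg (fun f => f.left) (c.w a.hom)
    exact (congr_arg₂ (fun f g => IsPullback f (pullback.snd w.left (c.π.app i).left) w.left g) e1 e2).mpr
      (IsPullback.of_hasPullback w.left (c.π.app i).left)
  · exact pullback.lift_snd _ _ _

theorem isAffine_pbSys [IsAffine W.left] [∀ j, IsAffine (D.obj j).left] (a : CategoryTheory.Over i) :
    IsAffine ((pbSys (D := D) w).obj a).left :=
  isAffine_pbObj

/-- if the pullback to the limit is empty, so is the pullback to some stage -/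
theorem exists_isEmpty_pbObj [IsAffine W.left] [∀ j, IsAffine (D.obj j).left] (hc : IsLimit (schCone c))
    (h : IsEmpty (pbObj w (c.π.app i)).left) :
    ∃ (j : I) (a : j ⟶ i), IsEmpty (pbObj w (D.map a)).left := by
  by_contra! H
  obtain ⟨hl⟩ := nonempty_isLimit_pbCone w hc
  have hA : ∀ a, IsAffine ((sch (pbSys (D := D) w)).obj a) := isAffine_pbSys w
  haveI : ∀ {a b} (f : a ⟶ b), IsAffineHom ((sch (pbSys (D := D) w)).map f) := fun {a b} f =>
    @isAffineHom_of_isAffine _ _ _ (hA a) (hA b)
  haveI : ∀ a, CompactSpace ((sch (pbSys (D := D) w)).obj a) := fun a => by have := hA a; infer_instance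
  haveI : ∀ a, Nonempty ((sch (pbSys (D := D) w)).obj a) := fun a => H a.left a.hom
  exact (Scheme.nonempty_of_isLimit _ _ hl).elim fun z => h.false z

end Groth.Agent.EtModLib
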