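import Groth.Agent.EtModLib.PLC.Basic
import Groth.Agent.EtModLib.PLC.System
import Groth.Agent.ProEtLib.Cover

/-! Sections of locally constant sheaves vanishing on a limit vanish at a stage. -/

universe u

open CategoryTheory CategoryTheory.Limits AlgebraicGeometry Opposite

noncomputable section

set_option backward.isDefEq.respectTransparency false
set_option backward.isDefEq.respectTransparency.types false

namespace Groth.Agent.EtModLib

open ProEtLib

variable {Λ : Type (u + 1)} [CommRing Λ] {X : Scheme.{u}}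

theorem isAffine_opObj_of_isClosed {U : X.ProEt} [IsAffine U.left] (W : U.left.Opens)
    (h : IsClosed (W : Set ↥U.left)) : IsAffine (opObj U W).left := by
  have : IsClosedImmersion W.ι := IsClosedImmersion.of_isPreimmersion _ (by
    rw [Scheme.Opens.range_ι]; exact h)
  exact isAffine_of_isAffineHom W.ι

/-- covering sieves of affine objects contain finite affine covers -/
theorem exists_pieces (U : X.ProEt) [IsAffine U.left] {R : Sieve U} (hR : R ∈ Scheme.ProEt.topology X U) :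
    ∃ (n : ℕ) (P : Fin n → X.ProEt) (p : ∀ k, P k ⟶ U), (∀ k, IsAffine (P k).left) ∧ (∀ k, R (p k)) ∧
      Sieve.generate (Presieve.ofArrows P p) ∈ Scheme.ProEt.topology X U := by
  obtain ⟨V, g, hg, hV, hwc⟩ := exists_wc_affine_cover U
  obtain ⟨n, W, hclo, -, hcov, hW⟩ :=
    criterion_of_wContractible hwc _ ((Scheme.ProEt.topology X).pullback_stable g hR)
  refine ⟨n, fun k => opObj V (W k), fun k => opHom V (W k) ≫ g,
    fun k => isAffine_opObj_of_isClosed _ (hclo k).isClosed, hW, ?_⟩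
  refine mem_topology_of_family _ (fun _ : Unit => V) (fun _ => g)
    ((Scheme.ProEt.topology X).superset_covering ?_ hg) fun _ => ?_
  · rintro Y f ⟨Z, a, _, ⟨⟩, rfl⟩
    exact ⟨_, a, _, Presieve.ofArrows.mk (f := fun _ : Unit => g) (), rfl⟩
  · refine (Scheme.ProEt.topology X).superset_covering ?_
      (opens_mem_topology V (fun k : ULift.{u} (Fin n) => W k.down) fun x => ?_)
    · rintro Y f ⟨Z, a, _, ⟨k⟩, rfl⟩
      exact ⟨_, a, _, Presieve.ofArrows.mk (f := fun k => opHom V (W k) ≫ g) k.down, by simp⟩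
    · obtain ⟨k, hk⟩ := Set.mem_iUnion.1 (hcov.symm ▸ Set.mem_univ x)
      exact ⟨⟨k⟩, hk⟩

theorem exists_common {I : Type u} [SmallCategory I] [IsCofiltered I] {i : I} :
    ∀ {n : ℕ} (j : Fin n → I) (a : ∀ k, j k ⟶ i), ∃ (j₀ : I) (a₀ : j₀ ⟶ i), ∀ k, ∃ b, b ≫ a k = a₀
  | 0, _, _ => ⟨i, 𝟙 i, fun k => k.elim0⟩
  | n + 1, j, a => by
    obtain ⟨j₁, a₁, h₁⟩ := exists_common (fun k : Fin n => j k.succ) fun k => a k.succ
    obtain ⟨j₀, p, q, e⟩ := IsCofiltered.cospan a₁ (a 0)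
    refine ⟨j₀, p ≫ a₁, fun k => ?_⟩
    induction k using Fin.cases with
    | zero => exact ⟨q, e.symm⟩
    | succ k =>
      obtain ⟨b, hb⟩ := h₁ k
      exact ⟨p ≫ b, by rw [Category.assoc, hb]⟩

variable {G : EtModW.ModP Λ X}

theorem lc_sieve (hG : LC G) {T : X.ProEt} (s : G.obj.obj (op T)) :
    ∃ R ∈ Scheme.ProEt.topology X T, ∀ ⦃T' : X.ProEt⦄ (f : T' ⟶ T), R f →
      ∃ (M : ModuleCat.{u + 1} Λ) (φ : M ⟶ G.obj.obj (op T')), Module.FinitePresentation Λ M ∧
        ConstAt G φ ∧ ∃ m, G.obj.map f.op s = φ m := by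
  let R : Sieve T :=
    { arrows := fun T' f => ∃ (M : ModuleCat.{u + 1} Λ) (φ : M ⟶ G.obj.obj (op T')),
        Module.FinitePresentation Λ M ∧ ConstAt G φ ∧ ∃ m, G.obj.map f.op s = φ m
      downward_closed := by
        rintro Y Z f ⟨M, φ, hM, hφ, m, hm⟩ k
        exact ⟨M, φ ≫ G.obj.map k.op, hM, hφ.restrict k, m,
          ((map_map k f s).symm.trans (congrArg (G.obj.map k.op) hm))⟩ }
  obtain ⟨R₁, hR₁, hR₁'⟩ := hG T
  refine ⟨R, (Scheme.ProEt.topology X).transitive hR₁ R fun T' f hf => ?_, fun _ _ h => h⟩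
  obtain ⟨M, φ, hM, hφ⟩ := hR₁' f hf
  obtain ⟨R₂, hR₂, hR₂'⟩ := hφ.surj (𝟙 T') (G.obj.map f.op s)
  refine (Scheme.ProEt.topology X).superset_covering (fun Y g hg => ?_) hR₂
  obtain ⟨m, hm⟩ := hR₂' g hg
  rw [Category.comp_id] at hm
  exact ⟨M, φ ≫ G.obj.map g.op, hM, hφ.restrict g, m, (map_map g f s).symm.trans hm⟩

/-- a section vanishing on the limit of a system of affine objects vanishes at a stage -/
theorem exists_kill_section (hG : LC G) {I : Type u} [SmallCategory I] [IsCofiltered I] {D : I ⥤ X.ProEt}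
    [∀ j, IsAffine (D.obj j).left] {c : Cone D} (hc : IsLimit (schCone c)) {i : I}
    (s : G.obj.obj (op (D.obj i))) (h : G.obj.map (c.π.app i).op s = 0) :
    ∃ (j : I) (a : j ⟶ i), G.obj.map (D.map a).op s = 0 := by
  obtain ⟨R, hR, hR'⟩ := lc_sieve hG s
  obtain ⟨n, P, p, hP, hRp, hcov⟩ := exists_pieces (D.obj i) hR
  choose M φ hM hφ m hm using fun k => hR' (p k) (hRp k)
  have stage : ∀ k, ∃ (j : I) (a : j ⟶ i), m k = 0 ∨ IsEmpty (pbObj (p k) (D.map a)).left := fun k => by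
    by_cases hm0 : m k = 0
    · exact ⟨i, 𝟙 i, Or.inl hm0⟩
    · obtain ⟨j, a, hja⟩ := exists_isEmpty_pbObj (p k) hc (isEmpty_of_bot ((hφ k).inj (pbFst (p k) (c.π.app i)) (m k) (by
        rw [← hm k, map_map, pb_condition, ← map_map, h, map_zero]) hm0))
      exact ⟨j, a, Or.inr hja⟩
  choose j a ha using stage
  obtain ⟨j₀, a₀, h₀⟩ := exists_common j a
  refine ⟨j₀, a₀, eq_of_sieve (H := G) ((Scheme.ProEt.topology X).pullback_stable (D.map a₀) hcov) ?_⟩
  rintro T g ⟨Z, e, _, ⟨k⟩, he⟩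
  rw [map_map, map_zero, ← he]
  obtain ⟨b, hb⟩ := h₀ k
  rcases ha k with hk | hk
  · rw [← map_map, hm k, hk, map_zero, map_zero]
  · have hT : IsEmpty T.left :=
      ⟨fun z => hk.false ((pbLift e (g ≫ D.map b) (by
        rw [he, Category.assoc, ← Functor.map_comp, hb]) : T ⟶ pbObj (p k) (D.map (a k))).left.base z)⟩
    exact subsingleton_of_bot (H := G) (bot_of_isEmpty T hT) _ _

theorem exists_kill_family (hG : LC G) {I : Type u} [SmallCategory I] [IsCofiltered I] {D : I ⥤ X.ProEt}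
    [∀ j, IsAffine (D.obj j).left] {c : Cone D} (hc : IsLimit (schCone c)) {i : I} {n : ℕ}
    (s : Fin n → G.obj.obj (op (D.obj i))) (h : ∀ k, G.obj.map (c.π.app i).op (s k) = 0) :
    ∃ (j : I) (a : j ⟶ i), ∀ k, G.obj.map (D.map a).op (s k) = 0 := by
  choose j a ha using fun k => exists_kill_section hG hc (s k) (h k)
  obtain ⟨j₀, a₀, h₀⟩ := exists_common j a
  refine ⟨j₀, a₀, fun k => ?_⟩
  obtain ⟨b, hb⟩ := h₀ k
  rw [← hb, Functor.map_comp, ← map_map, ha k, map_zero]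

end Groth.Agent.EtModLib
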