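import Groth.Agent.EtModLib.PLC.LiftConst

/-! Sections of a locally constant sheaf over a limit of affine objects come from a stage. -/

universe u

open CategoryTheory CategoryTheory.Limits AlgebraicGeometry Opposite

noncomputable section

set_option backward.isDefEq.respectTransparency false
set_option backward.isDefEq.respectTransparency.types false

namespace Groth.Agent.EtModLib

open ProEtLib

variable {Λ : Type (u + 1)} [CommRing Λ] {X : Scheme.{u}}

/-- sections over the limit of a system of affine objects come from a stage -/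
theorem exists_lift_section {G : EtModW.ModP Λ X} (hG : LC G) {I : Type u} [SmallCategory I] [IsCofiltered I]
    {D : I ⥤ X.ProEt} [∀ j, IsAffine (D.obj j).left] {c : Cone D} (hc : IsLimit (schCone c)) (i : I)
    (s : G.obj.obj (op c.pt)) :
    ∃ (j : I) (_ : j ⟶ i) (x : G.obj.obj (op (D.obj j))), G.obj.map (c.π.app j).op x = s := by
  classical
  obtain ⟨R, hR, hR'⟩ := hG (D.obj i)
  obtain ⟨n, P, p, hP, hRp, hcov⟩ := exists_pieces (D.obj i) hR
  choose M φ hM hφ using fun k => hR' (p k) (hRp k)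
  haveI : ∀ k (a : CategoryTheory.Over i), IsAffine ((pbSys (D := D) (p k)).obj a).left :=
    fun k a => isAffine_pbSys (p k) a
  -- lifts on the pieces
  have hlift : ∀ k, ∃ (a : CategoryTheory.Over i) (x : G.obj.obj (op (pbObj (p k) (D.map a.hom)))),
      G.obj.map ((pbCone c (p k)).π.app a).op x = G.obj.map (pbSnd (p k) (c.π.app i)).op s := fun k => by
    obtain ⟨hk⟩ := nonempty_isLimit_pbCone (p k) hc
    obtain ⟨a, -, x, hx⟩ := exists_lift_const (c := pbCone c (p k)) hk (i := CategoryTheory.Over.mk (𝟙 i))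
      (hφ k) (pbFst (p k) (D.map (𝟙 i))) (G.obj.map (pbSnd (p k) (c.π.app i)).op s)
    exact ⟨a, x, hx⟩
  choose a x hx using hlift
  obtain ⟨j₁, a₁, h₁⟩ := exists_common (fun k => (a k).left) fun k => (a k).hom
  choose b hb using h₁
  let A₁ : CategoryTheory.Over i := CategoryTheory.Over.mk a₁
  let x₁ : ∀ k, G.obj.obj (op (pbObj (p k) (D.map a₁))) := fun k =>
    G.obj.map ((pbSys (D := D) (p k)).map (CategoryTheory.Over.homMk (b k) (hb k) : A₁ ⟶ a k)).op (x k)
  have hx₁ : ∀ k, G.obj.map ((pbCone c (p k)).π.app A₁).op (x₁ k) = G.obj.map (pbSnd (p k) (c.π.app i)).op s :=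
    fun k => by
      rw [← hx k, ← (pbCone c (p k)).w (CategoryTheory.Over.homMk (b k) (hb k) : A₁ ⟶ a k)]
      exact map_map _ _ _
  -- agreement on double pieces at a stage
  have hagree : ∀ q : Fin (n * n), ∃ (j : I) (e : j ⟶ j₁),
      ∀ (Z : X.ProEt) (f : Z ⟶ pbObj (p (finProdFinEquiv.symm q).1) (D.map a₁))
        (f' : Z ⟶ pbObj (p (finProdFinEquiv.symm q).2) (D.map a₁)) (z : Z ⟶ D.obj j),
        f ≫ pbSnd _ _ = z ≫ D.map e → f' ≫ pbSnd _ _ = z ≫ D.map e →
        G.obj.map f.op (x₁ _) = G.obj.map f'.op (x₁ _) := fun q => by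
    obtain ⟨⟨k, l⟩, rfl⟩ := finProdFinEquiv.surjective q
    rw [Equiv.symm_apply_apply]
    let w : pbObj (p k) (p l) ⟶ D.obj i := pbFst (p k) (p l) ≫ p k
    haveI : IsAffine (pbObj (p k) (p l)).left := isAffine_pbObj
    haveI : ∀ a : CategoryTheory.Over i, IsAffine ((pbSys (D := D) w).obj a).left := fun a => isAffine_pbSys w a
    obtain ⟨hw⟩ := nonempty_isLimit_pbCone w hc
    let α : pbObj w (D.map a₁) ⟶ pbObj (p k) (D.map a₁) :=
      pbLift (pbFst w _ ≫ pbFst (p k) (p l)) (pbSnd w _) (by rw [Category.assoc]; exact pb_condition w _)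
    let β : pbObj w (D.map a₁) ⟶ pbObj (p l) (D.map a₁) :=
      pbLift (pbFst w _ ≫ pbSnd (p k) (p l)) (pbSnd w _) (by
        rw [Category.assoc, ← pb_condition (p k) (p l)]; exact pb_condition w _)
    let d : G.obj.obj (op ((pbSys (D := D) w).obj A₁)) := G.obj.map α.op (x₁ k) - G.obj.map β.op (x₁ l)
    have hd : G.obj.map ((pbCone c w).π.app A₁).op d = 0 := by
      let α' : (pbCone c w).pt ⟶ (pbCone c (p k)).pt :=
        pbLift (pbFst w _ ≫ pbFst (p k) (p l)) (pbSnd w _) (by rw [Category.assoc]; exact pb_condition w _)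
      let β' : (pbCone c w).pt ⟶ (pbCone c (p l)).pt :=
        pbLift (pbFst w _ ≫ pbSnd (p k) (p l)) (pbSnd w _) (by
          rw [Category.assoc, ← pb_condition (p k) (p l)]; exact pb_condition w _)
      have e1 : ((pbCone c w).π.app A₁) ≫ α = α' ≫ (pbCone c (p k)).π.app A₁ :=
        pb_hom_ext (by simp [pbCone, α, α', A₁]) (by simp [pbCone, α, α', A₁])
      have e2 : ((pbCone c w).π.app A₁) ≫ β = β' ≫ (pbCone c (p l)).π.app A₁ :=
        pb_hom_ext (by simp [pbCone, β, β', A₁]) (by simp [pbCone, β, β', A₁])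
      rw [map_sub, sub_eq_zero]
      refine (map_map _ α (x₁ k)).trans (Eq.trans ?_ (map_map _ β (x₁ l)).symm)
      refine (congrArg (fun f : (pbCone c w).pt ⟶ pbObj (p k) (D.map a₁) => G.obj.map f.op (x₁ k)) e1).trans ?_
      refine Eq.trans ?_ (congrArg (fun f : (pbCone c w).pt ⟶ pbObj (p l) (D.map a₁) => G.obj.map f.op (x₁ l)) e2).symm
      refine (map_map _ _ _).symm.trans ((congrArg _ (hx₁ k)).trans (Eq.trans ?_
        ((congrArg _ (hx₁ l)).symm.trans (map_map _ _ _))))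
      refine (map_map _ _ _).trans (Eq.trans ?_ (map_map _ _ _).symm)
      simp [α', β']
    obtain ⟨B, g, hg⟩ := exists_kill_section hG hw d hd
    refine ⟨B.left, g.left, fun Z f f' z hf hf' => ?_⟩
    have hB : g.left ≫ a₁ = B.hom := CategoryTheory.Over.w g
    have c1 : f ≫ pbFst (p k) (D.map a₁) ≫ p k = z ≫ D.map B.hom := by
      rw [pb_condition, reassoc_of% hf, ← Functor.map_comp, hB]
    have c2 : f' ≫ pbFst (p l) (D.map a₁) ≫ p l = z ≫ D.map B.hom := by
      rw [pb_condition, reassoc_of% hf', ← Functor.map_comp, hB]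
    let q₂ : Z ⟶ pbObj (p k) (p l) := pbLift (f ≫ pbFst _ _) (f' ≫ pbFst _ _) (by
      rw [Category.assoc, Category.assoc, c1, c2])
    let T : Z ⟶ pbObj w (D.map B.hom) := pbLift q₂ z (by
      simp only [w, q₂, pbLift_fst_assoc, Category.assoc]; exact c1)
    let γ : pbObj w (D.map B.hom) ⟶ pbObj w (D.map a₁) := pbLift (pbFst _ _) (pbSnd _ _ ≫ D.map g.left) (by
      rw [pb_condition, Category.assoc, ← Functor.map_comp, hB])
    have hg' : G.obj.map γ.op (G.obj.map α.op (x₁ k) - G.obj.map β.op (x₁ l)) = 0 := hg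
    have e3 : T ≫ γ ≫ α = f := pb_hom_ext (by simp [T, α, γ, q₂]) (by simp [T, α, γ, hf])
    have e4 : T ≫ γ ≫ β = f' := pb_hom_ext (by simp [T, β, γ, q₂]) (by simp [T, β, γ, hf'])
    have h0 := congrArg (G.obj.map T.op) hg'
    rw [map_zero, map_sub, map_sub, sub_eq_zero] at h0
    rw [← e3, ← e4, ← map_map, ← map_map γ α, h0, map_map, map_map, Category.assoc]
  choose jq eq_ hagree using hagree
  obtain ⟨j₂, a₂, h₂⟩ := exists_common jq eq_
  have hcov₂ := (Scheme.ProEt.topology X).pullback_stable (D.map (a₂ ≫ a₁)) hcov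
  let Q : Fin n → X.ProEt := fun k => pbObj (p k) (D.map (a₂ ≫ a₁))
  let r : ∀ k, Q k ⟶ D.obj j₂ := fun k => pbSnd (p k) (D.map (a₂ ≫ a₁))
  let up : ∀ k, Q k ⟶ pbObj (p k) (D.map a₁) := fun k =>
    pbLift (pbFst _ _) (r k ≫ D.map a₂) (by rw [pb_condition, Category.assoc, ← Functor.map_comp])
  have hQ : Sieve.generate (Presieve.ofArrows Q r) ∈ Scheme.ProEt.topology X (D.obj j₂) := by
    refine (Scheme.ProEt.topology X).superset_covering ?_ hcov₂
    rintro T g ⟨Z, e, _, ⟨k⟩, he⟩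
    exact ⟨Q k, pbLift e g he, r k, Presieve.ofArrows.mk k, pbLift_snd _ _ _⟩
  obtain ⟨y, hy⟩ := exists_glue_proEt G Q r hQ (fun k => G.obj.map (up k).op (x₁ k)) fun k l Z f f' hff' => by
    rw [map_map, map_map]
    obtain ⟨e, he⟩ := h₂ (finProdFinEquiv (k, l))
    have h := hagree (finProdFinEquiv (k, l))
    rw [Equiv.symm_apply_apply] at h
    refine h Z (f ≫ up k) (f' ≫ up l) (f ≫ r k ≫ D.map e) ?_ ?_
    · simp only [up, Category.assoc, pbLift_snd, ← Functor.map_comp, he]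
    · simp only [up, Category.assoc, pbLift_snd, ← Functor.map_comp, he]
      rw [reassoc_of% hff']
  refine ⟨j₂, a₂ ≫ a₁, y, eq_of_sieve (H := G) ((Scheme.ProEt.topology X).pullback_stable (c.π.app i) hcov) ?_⟩
  rintro T g ⟨Z, e, _, ⟨k⟩, he⟩
  let e₀ : T ⟶ (pbCone c (p k)).pt := pbLift e g he
  let E₂ : T ⟶ Q k := pbLift e (g ≫ c.π.app j₂) (by rw [he, Category.assoc, c.w])
  have hE : E₂ ≫ r k = g ≫ c.π.app j₂ := pbLift_snd _ _ _
  let ρ : pbObj (p k) (c.π.app i) ⟶ pbObj (p k) (D.map a₁) :=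
    pbLift (pbFst _ _) (pbSnd _ _ ≫ c.π.app j₁) (by rw [pb_condition, Category.assoc, c.w])
  have hE' : E₂ ≫ up k = (pbLift e g he : T ⟶ pbObj (p k) (c.π.app i)) ≫ ρ :=
    pb_hom_ext (by simp [E₂, up, ρ]) (by
      simp only [E₂, up, ρ, Category.assoc, pbLift_snd, pbLift_snd_assoc]
      rw [reassoc_of% hE, c.w a₂])
  refine (map_map _ _ _).trans ?_
  refine (congrArg (fun f : T ⟶ D.obj j₂ => G.obj.map f.op y) hE.symm).trans ?_
  refine (map_map _ _ _).symm.trans ((congrArg _ (hy k)).trans ((map_map _ _ _).trans ?_))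
  refine (congrArg (fun f : T ⟶ pbObj (p k) (D.map a₁) => G.obj.map f.op (x₁ k)) hE').trans ?_
  refine (map_map _ _ _).symm.trans ((congrArg _ (hx₁ k)).trans ((map_map _ _ _).trans ?_))
  simp only [e₀, pbLift_snd]

theorem exists_lift_family {G : EtModW.ModP Λ X} (hG : LC G) {I : Type u} [SmallCategory I] [IsCofiltered I]
    {D : I ⥤ X.ProEt} [∀ j, IsAffine (D.obj j).left] {c : Cone D} (hc : IsLimit (schCone c)) (i : I) {n : ℕ}
    (s : Fin n → G.obj.obj (op c.pt)) :
    ∃ (j : I) (_ : j ⟶ i) (x : Fin n → G.obj.obj (op (D.obj j))),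
      ∀ k, G.obj.map (c.π.app j).op (x k) = s k := by
  choose j a x hx using fun k => exists_lift_section hG hc i (s k)
  obtain ⟨j₀, a₀, h₀⟩ := exists_common j a
  choose b hb using h₀
  refine ⟨j₀, a₀, fun k => G.obj.map (D.map (b k)).op (x k), fun k => ?_⟩
  refine (map_map _ _ _).trans ?_
  exact (congrArg (fun f => G.obj.map (Quiver.Hom.op f) (x k)) (c.w (b k))).trans (hx k)

end Groth.Agent.EtModLib
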