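import Groth.Agent.EtModLib.PLC.Glue

/-! Sections of a constant sheaf over a limit come from a stage. -/

universe u

open CategoryTheory CategoryTheory.Limits AlgebraicGeometry Opposite

noncomputable section

set_option backward.isDefEq.respectTransparency false
set_option backward.isDefEq.respectTransparency.types false

namespace Groth.Agent.EtModLib

open ProEtLib

variable {Λ : Type (u + 1)} [CommRing Λ] {X : Scheme.{u}}

theorem exists_common_obj {I : Type u} [SmallCategory I] [IsCofiltered I] (i : I) :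
    ∀ {n : ℕ} (j : Fin n → I), ∃ (j₀ : I) (_ : j₀ ⟶ i), ∀ k, Nonempty (j₀ ⟶ j k)
  | 0, _ => ⟨i, 𝟙 i, fun k => k.elim0⟩
  | n + 1, j => by
    obtain ⟨j₁, a, h⟩ := exists_common_obj i fun k : Fin n => j k.succ
    refine ⟨IsCofiltered.min j₁ (j 0), IsCofiltered.minToLeft _ _ ≫ a, fun k => ?_⟩
    induction k using Fin.cases with
    | zero => exact ⟨IsCofiltered.minToRight _ _⟩
    | succ k => exact ⟨IsCofiltered.minToLeft _ _ ≫ (h k).some⟩

/-- sections of a constant sheaf over the limit of a system come from a stage -/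
theorem exists_lift_const {G : EtModW.ModP Λ X} {I : Type u} [SmallCategory I] [IsCofiltered I]
    {D : I ⥤ X.ProEt} [∀ j, IsAffine (D.obj j).left] {c : Cone D} (hc : IsLimit (schCone c)) {i : I}
    {U : X.ProEt} {M : ModuleCat.{u + 1} Λ} {φ : M ⟶ G.obj.obj (op U)} (hφ : ConstAt G φ)
    (t : D.obj i ⟶ U) (s : G.obj.obj (op c.pt)) :
    ∃ (j : I) (_ : j ⟶ i) (x : G.obj.obj (op (D.obj j))), G.obj.map (c.π.app j).op x = s := by
  classical
  have hA : ∀ j, IsAffine ((sch D).obj j) := fun j => inferInstanceAs (IsAffine (D.obj j).left)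
  haveI : ∀ {a b} (f : a ⟶ b), IsAffineHom ((sch D).map f) := fun {a b} f =>
    @isAffineHom_of_isAffine _ _ _ (hA a) (hA b)
  haveI : IsAffine c.pt.left := Scheme.isAffine_of_isLimit _ hc
  obtain ⟨n, E, m, hcovE, hcE, hdis, hE⟩ := exists_const_opens (T := c.pt) hφ (c.π.app i ≫ t) s
  choose i' V hV hVE using fun k => exists_preimage_eq (sch D) (schCone c) hc (E k) (hcE k)
  obtain ⟨j₁, a₁, hj₁⟩ := exists_common_obj i i'
  let V₁ : Fin n → (D.obj j₁).left.Opens := fun k => (D.map (hj₁ k).some).left ⁻¹ᵁ V k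
  have hV₁c : ∀ k, IsCompact (V₁ k : Set ↥(D.obj j₁).left) := fun k => by
    have : IsAffineHom (D.map (hj₁ k).some).left := isAffineHom_of_isAffine _
    exact QuasiCompact.isCompact_preimage _ (V k).2 (hV k)
  have hV₁E : ∀ k, (c.π.app j₁).left ⁻¹ᵁ V₁ k = E k := fun k => by
    rw [← hVE k]
    change (c.π.app j₁).left ⁻¹ᵁ ((D.map (hj₁ k).some).left ⁻¹ᵁ V k) = _
    rw [← Scheme.Hom.comp_preimage]
    exact congrArg (fun f => f ⁻¹ᵁ V k) (congrArg (fun f => f.left) (c.w (hj₁ k).some))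
  -- shrink to a stage where the opens cover and conflicting opens are disjoint
  obtain ⟨j₂, a₂, ha₂⟩ := exists_map_eq_top (sch D) (schCone c) hc (i := j₁) (⨆ k, V₁ k) (eq_top_iff.2 fun x _ => by
    obtain ⟨k, hk⟩ := hcovE x
    refine TopologicalSpace.Opens.mem_iSup.2 ⟨k, ?_⟩
    exact (hV₁E k).ge hk)
  have hpair : ∀ q : Fin (n * n), ∃ (j : I) (a : j ⟶ j₁), m (finProdFinEquiv.symm q).1 ≠ m (finProdFinEquiv.symm q).2 →
      (D.map a).left ⁻¹ᵁ (V₁ (finProdFinEquiv.symm q).1 ⊓ V₁ (finProdFinEquiv.symm q).2) ≤ ⊥ := fun q => by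
    obtain ⟨⟨k, l⟩, rfl⟩ := finProdFinEquiv.surjective q
    rw [Equiv.symm_apply_apply]
    by_cases hkl : m k = m l
    · exact ⟨j₁, 𝟙 _, fun h => (h hkl).elim⟩
    · obtain ⟨j, a, ha⟩ := exists_map_preimage_le_map_preimage (sch D) (schCone c) hc (i := j₁) (U := V₁ k ⊓ V₁ l)
        (V := ⊥) ((hV₁c k).inter_of_isOpen (hV₁c l) (V₁ k).2 (V₁ l).2) (fun x hx => by
          have h1 : x ∈ E k := (hV₁E k).le hx.1
          have h2 : x ∈ E l := (hV₁E l).le hx.2
          exact (Set.disjoint_left.1 (hdis k l hkl) h1 h2).elim)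
      exact ⟨j, a, fun _ x hx => by exact ha hx⟩
  choose jp ap hap using hpair
  obtain ⟨j₃, a₃, h₃⟩ := exists_common (i := j₁) (Fin.cons j₂ jp) (Fin.cases a₂ ap)
  let W : Fin n → (D.obj j₃).left.Opens := fun k => (D.map a₃).left ⁻¹ᵁ V₁ k
  have hWcov : ∀ x, ∃ k, x ∈ W k := fun x => by
    obtain ⟨b, hb⟩ := h₃ 0
    have hx : (D.map b).left.base x ∈ (D.map a₂).left ⁻¹ᵁ ⨆ k, V₁ k := ha₂.ge trivial
    obtain ⟨k, hk⟩ := TopologicalSpace.Opens.mem_iSup.1 hx
    refine ⟨k, ?_⟩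
    change (D.map a₃).left.base x ∈ V₁ k
    rw [← hb, Functor.map_comp]
    exact hk
  have hWdis : ∀ k l x, x ∈ W k → x ∈ W l → m k = m l := fun k l x hk hl => by
    by_contra hne
    obtain ⟨b, hb⟩ := h₃ (Fin.succ (finProdFinEquiv (k, l)))
    have h := hap (finProdFinEquiv (k, l))
    rw [Equiv.symm_apply_apply] at h
    change (D.map a₃).left.base x ∈ V₁ k at hk
    change (D.map a₃).left.base x ∈ V₁ l at hl
    rw [← hb, Functor.map_comp] at hk hl
    exact h hne ⟨hk, hl⟩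
  let u₃ : D.obj j₃ ⟶ U := D.map (a₃ ≫ a₁) ≫ t
  obtain ⟨x, hx⟩ := exists_glue_proEt G (fun k : ULift.{u} (Fin n) => opObj (D.obj j₃) (W k.down))
    (fun k => opHom (D.obj j₃) (W k.down)) (opens_mem_topology _ _ fun x => ⟨⟨(hWcov x).choose⟩, (hWcov x).choose_spec⟩)
    (fun k => G.obj.map (opHom (D.obj j₃) (W k.down) ≫ u₃).op (φ (m k.down)))
    fun k l Z a b hab => by
      by_cases hZ : IsEmpty Z.left
      · exact subsingleton_of_bot (H := G) (bot_of_isEmpty Z hZ) _ _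
      · obtain ⟨z⟩ := not_isEmpty_iff.1 hZ
        have hpt : ((a.left.base z).1 : (D.obj j₃).left) = (b.left.base z).1 :=
          congrArg (fun f : Z.left ⟶ (D.obj j₃).left => f.base z) (congrArg (fun f => f.left) hab)
        rw [hWdis k.down l.down _ (a.left.base z).2 (hpt ▸ (b.left.base z).2), map_map, map_map, ← Category.assoc,
          hab, Category.assoc]
  refine ⟨j₃, a₃ ≫ a₁, x, eq_of_sieve (H := G)
    (opens_mem_topology c.pt (fun k : ULift.{u} (Fin n) => E k.down) fun x => ⟨⟨(hcovE x).choose⟩, (hcovE x).choose_spec⟩) ?_⟩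
  rintro T g ⟨Z, e, _, ⟨k⟩, rfl⟩
  rw [← map_map e (opHom c.pt (E k.down)) s, ← map_map e (opHom c.pt (E k.down)) (G.obj.map (c.π.app j₃).op x)]
  congr 1
  have hle : E k.down ≤ (c.π.app j₃).left ⁻¹ᵁ W k.down := by
    rw [← hV₁E k.down]
    change (c.π.app j₁).left ⁻¹ᵁ V₁ k.down ≤ (c.π.app j₃).left ⁻¹ᵁ ((D.map a₃).left ⁻¹ᵁ V₁ k.down)
    rw [← Scheme.Hom.comp_preimage]
    exact (congrArg (fun f => f ⁻¹ᵁ V₁ k.down) (congrArg (fun f => f.left) (c.w a₃).symm)).le
  refine (map_map _ _ _).trans ?_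
  refine (congrArg (fun f : opObj c.pt (E k.down) ⟶ D.obj j₃ => G.obj.map f.op x) (opMap_comp (c.π.app j₃) _ _ hle).symm).trans ?_
  refine (map_map _ _ _).symm.trans ((congrArg _ (hx k)).trans ((map_map _ _ _).trans (Eq.trans ?_ (hE k.down).symm)))
  refine congrArg (fun f : opObj c.pt (E k.down) ⟶ U => G.obj.map f.op (φ (m k.down))) ?_
  refine (Category.assoc _ _ _).symm.trans ((congrArg (· ≫ u₃) (opMap_comp (c.π.app j₃) _ _ hle)).trans ?_)
  refine (Category.assoc _ _ _).trans (congrArg (opHom c.pt (E k.down) ≫ ·) ?_)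
  exact (Category.assoc _ _ _).symm.trans (congrArg (· ≫ t) (c.w (a₃ ≫ a₁)))

end Groth.Agent.EtModLib
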