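import Groth.Agent.EtModLib.PLC.Kill
import Mathlib.AlgebraicGeometry.Morphisms.Flat

/-! Sections of a constant sheaf over an affine object are constant on the members of a finite open cover. -/

universe u

open CategoryTheory CategoryTheory.Limits AlgebraicGeometry Opposite MorphismProperty

noncomputable section

set_option backward.isDefEq.respectTransparency false
set_option backward.isDefEq.respectTransparency.types false

namespace Groth.Agent.EtModLib

open ProEtLib

variable {Λ : Type (u + 1)} [CommRing Λ] {X : Scheme.{u}}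

theorem exists_range_generate {n : ℕ} {T : X.ProEt} {P : Fin n → X.ProEt} {p : ∀ k, P k ⟶ T}
    (h : Sieve.generate (Presieve.ofArrows P p) ∈ Scheme.ProEt.topology X T) (x : T.left) :
    ∃ k, x ∈ Set.range (p k).left.base := by
  obtain ⟨V, g, v, ⟨Z, a, _, ⟨k⟩, rfl⟩, hv⟩ := exists_hit h x
  exact ⟨k, _, hv⟩

theorem isOpen_of_pieces {n : ℕ} {T : X.ProEt} [IsAffine T.left] {P : Fin n → X.ProEt} (p : ∀ k, P k ⟶ T)
    [∀ k, IsAffine (P k).left] (h : Sieve.generate (Presieve.ofArrows P p) ∈ Scheme.ProEt.topology X T)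
    (E : Set T.left) (hE : ∀ k, IsOpen ((p k).left.base ⁻¹' E)) : IsOpen E := by
  let c : ULift.{u} (Fin n) → Scheme.{u} := fun k => (P k.down).left
  have : ∀ k, IsAffine (c k) := fun k => inferInstanceAs (IsAffine (P k.down).left)
  let q : ∀ k, c k ⟶ T.left := fun k => (p k.down).left
  have : WeaklyEtale (Sigma.desc q) := IsZariskiLocalAtSource.sigmaDesc fun k => weaklyEtale_left (p k.down)
  have hA : IsAffineHom (Sigma.desc q) := isAffineHom_of_isAffine _
  have : Surjective (Sigma.desc q) := ⟨fun x => by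
    obtain ⟨k, v, hv⟩ := exists_range_generate h x
    refine ⟨(Sigma.ι c ⟨k⟩).base v, ?_⟩
    rw [← Scheme.Hom.comp_apply, Sigma.ι_desc]
    exact hv⟩
  refine (Flat.isQuotientMap_of_surjective (Sigma.desc q)).isOpen_preimage.1 ?_
  rw [← (sigmaMk c).isOpen_preimage, isOpen_sigma_iff]
  intro k
  have e : (Sigma.mk (β := fun l => ↥(c l)) k) ⁻¹' ((sigmaMk c) ⁻¹' ((Sigma.desc q).base ⁻¹' E)) = (q k).base ⁻¹' E := by
    ext y
    change (Sigma.desc q).base (sigmaMk c ⟨k, y⟩) ∈ E ↔ _
    rw [sigmaMk_mk, ← Scheme.Hom.comp_apply, Sigma.ι_desc]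
    rfl
  exact e ▸ hE k.down

/-- a section of a constant sheaf over an affine object is constant on each of finitely many opens, with
distinct values only on disjoint opens -/
theorem exists_const_opens {G : EtModW.ModP Λ X} {U T : X.ProEt} [IsAffine T.left] {M : ModuleCat.{u + 1} Λ}
    {φ : M ⟶ G.obj.obj (op U)} (hφ : ConstAt G φ) (t : T ⟶ U) (s : G.obj.obj (op T)) :
    ∃ (n : ℕ) (E : Fin n → T.left.Opens) (m : Fin n → M), (∀ x, ∃ k, x ∈ E k) ∧
      (∀ k, IsCompact (E k : Set ↥T.left)) ∧
      (∀ k l, m k ≠ m l → Disjoint (E k : Set ↥T.left) (E l)) ∧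
      ∀ k, G.obj.map (opHom T (E k)).op s = G.obj.map (opHom T (E k) ≫ t).op (φ (m k)) := by
  classical
  obtain ⟨R, hR, hR'⟩ := hφ.surj t s
  obtain ⟨n, P, p, hP, hRp, hcov⟩ := exists_pieces T hR
  choose m hm using fun k => hR' (p k) (hRp k)
  let E₀ : Fin n → Set T.left := fun k => ⋃ l ∈ {l | m l = m k}, Set.range (p l).left.base
  have key : ∀ k l (v : (P l).left), (p l).left.base v ∈ E₀ k → m l = m k := fun k l v hv => by
    obtain ⟨l', hl', w, hw⟩ := Set.mem_iUnion₂.1 hv
    obtain ⟨z, -, -⟩ := exists_pbObj_point (w := p l) (v := p l') v w hw.symm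
    refine (hφ.eq_of_point (pbFst (p l) (p l') ≫ p l ≫ t) z ?_).trans hl'
    refine ((map_map _ _ _).symm.trans (congrArg _ (hm l).symm)).trans ?_
    refine (map_map _ _ _).trans (Eq.trans ?_ ((congrArg (fun e => G.obj.map e.op (φ (m l')))
      (pb_condition_assoc (p l) (p l') t)).symm))
    rw [pb_condition, ← map_map, hm l', map_map]
  have hopen : ∀ k, IsOpen (E₀ k) := fun k => isOpen_of_pieces p hcov _ fun l => by
    by_cases hl : m l = m k
    · convert isOpen_univ
      exact Set.eq_univ_of_forall fun v => Set.mem_iUnion₂.2 ⟨l, hl, v, rfl⟩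
    · convert isOpen_empty
      exact Set.eq_empty_of_forall_notMem fun v hv => hl (key k l v hv)
  refine ⟨n, fun k => ⟨E₀ k, hopen k⟩, m, fun x => ?_, fun k => ?_, fun k k' hne => ?_, fun k => ?_⟩
  · obtain ⟨k, hk⟩ := exists_range_generate hcov x
    exact ⟨k, Set.mem_iUnion₂.2 ⟨k, rfl, hk⟩⟩
  · exact Set.Finite.isCompact_biUnion (Set.toFinite _) fun l _ => isCompact_range (p l).left.continuous
  · rw [Set.disjoint_left]
    intro x hx hx'
    obtain ⟨l, hl, v, rfl⟩ := Set.mem_iUnion₂.1 hx
    exact hne (hl.symm.trans (key k' l v hx'))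
  · refine eq_of_sieve (H := G) ((Scheme.ProEt.topology X).pullback_stable (opHom T ⟨E₀ k, hopen k⟩) hcov) ?_
    rintro T' g ⟨Z, e, _, ⟨l⟩, he⟩
    rw [map_map, map_map, ← he]
    by_cases hT : IsEmpty T'.left
    · exact subsingleton_of_bot (H := G) (bot_of_isEmpty T' hT) _ _
    · obtain ⟨z⟩ := not_isEmpty_iff.1 hT
      have hmem : (p l).left.base (e.left.base z) ∈ E₀ k := by
        have := congrArg (fun f : T'.left ⟶ T.left => f.base z) (congrArg (fun f => f.left) he)
        exact this ▸ (g.left.base z).2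
      rw [← key k l _ hmem, ← map_map, hm l, map_map]
      congr 3
      rw [← reassoc_of% he]

end Groth.Agent.EtModLib
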