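import Groth.Agent.EtModLib.PLC.Basic
import Groth.Agent.EtModLib.EpsMod
import Groth.Agent.EtFound.Basic

/-! Pullbacks of etale locally constant sheaves are locally constant on the pro-etale site. -/

universe u

open CategoryTheory CategoryTheory.Limits AlgebraicGeometry Opposite

noncomputable section

set_option backward.isDefEq.respectTransparency false
set_option backward.isDefEq.respectTransparency.types false

namespace Groth.Agent.EtModLib

open ProEtLib SitePullUnit

variable {Λ : Type (u + 1)} [CommRing Λ] {X : Scheme.{u}} [ProEtS.EpsCont X]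

/-- sections of a pulled back sheaf: locally etale sections; etale sections vanish only etale locally -/
theorem pull_sections {H : EtModW.ModP Λ X} (hH : (ProEtS.epsPull X).essImage ((UP Λ).obj H)) :
    (∀ (T : X.ProEt) (s : H.obj.obj (op T)), ∃ R ∈ Scheme.ProEt.topology X T, ∀ ⦃T' : X.ProEt⦄ (f : T' ⟶ T), R f →
      ∃ (V : X.Etale) (b : T' ⟶ (ProEtS.eps X).obj V) (x : H.obj.obj (op ((ProEtS.eps X).obj V))),
        H.obj.map b.op x = H.obj.map f.op s) ∧
    ∀ (T : X.ProEt) (V : X.Etale) (b : T ⟶ (ProEtS.eps X).obj V) (x : H.obj.obj (op ((ProEtS.eps X).obj V))),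
      H.obj.map b.op x = 0 → ∀ z : T.left, ∃ (W : X.Etale) (c : W ⟶ V) (v : W.left),
        c.left.base v = b.left.base z ∧ H.obj.map ((ProEtS.eps X).map c).op x = 0 := by
  have := repFlat_eps (X := X)
  have := isIso_unit_eps (X := X)
  have : IsIso (ProEtS.epsAdj X).unit := NatIso.isIso_of_isIso_app _
  obtain ⟨hff⟩ : Nonempty (ProEtS.epsPull X).FullyFaithful := ⟨(ProEtS.epsAdj X).fullyFaithfulLOfIsIsoUnit⟩
  haveI := hff.full
  haveI := hff.faithful
  let A : ProEtS.AbP X := (UP Λ).obj H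
  let F : EtCoh.Ab X := (ProEtS.epsPush X).obj A
  haveI : IsIso ((ProEtS.epsAdj X).counit.app A) := (ProEtS.epsAdj X).isIso_counit_app_iff_mem_essImage.2 hH
  let ad := Functor.sheafPullbackConstruction.sheafAdjunctionContinuous (ProEtS.eps X) AddCommGrpCat.{u + 1}
    X.smallEtaleTopology (Scheme.ProEt.topology X)
  let k := ad.counit.app A
  haveI : IsIso k := by
    show IsIso (ad.counit.app A)
    rw [← Adjunction.leftAdjointUniq_hom_app_counit ad (ProEtS.epsAdj X) A]
    infer_instance
  have tri : ∀ (V : X.Etale) (x : F.obj.obj (op V)),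
      k.hom.app (op ((ProEtS.eps X).obj V)) ((conUnit (ProEtS.eps X) (Scheme.ProEt.topology X) F).app (op V) x) = x :=
    fun V x => by
      have h := congrArg (fun f : F ⟶ F => f.hom.app (op V) x) (ad.right_triangle_components A)
      have hu := congrArg (fun q => q.app (op V) x) (unit_con (ProEtS.eps X) (Scheme.ProEt.topology X) F)
      exact (congrArg (k.hom.app (op ((ProEtS.eps X).obj V))) hu).symm.trans h
  refine ⟨fun T s => ?_, fun T V b x hx z => ?_⟩
  · obtain ⟨R, hR, hR'⟩ := exists_cover_sGerm (ProEtS.eps X) (Scheme.ProEt.topology X) F ((inv k).hom.app (op T) s)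
    refine ⟨R, hR, fun T' f hf => ?_⟩
    obtain ⟨V, b, x, hx⟩ := hR' f hf
    refine ⟨V, b, x, ?_⟩
    have hk : k.hom.app (op T) ((inv k).hom.app (op T) s) = s :=
      congrArg (fun f : A ⟶ A => f.hom.app (op T) s) (IsIso.inv_hom_id k)
    have h := congrArg (k.hom.app (op T')) hx
    refine Eq.trans ?_ (h.trans ((NatTrans.naturality_apply k.hom f.op _).trans (congrArg _ hk)))
    exact ((NatTrans.naturality_apply k.hom b.op _).trans (congrArg _ (tri V x))).symm
  · have hinj : Function.Injective (k.hom.app (op T)) := fun a a' h => by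
      have e : ∀ a, (inv k).hom.app (op T) (k.hom.app (op T) a) = a := fun a =>
        congrArg (fun f : (Functor.sheafPullbackConstruction.sheafPullback (ProEtS.eps X) AddCommGrpCat.{u + 1}
          X.smallEtaleTopology (Scheme.ProEt.topology X)).obj F ⟶ _ => f.hom.app (op T) a) (IsIso.hom_inv_id k)
      exact (e a).symm.trans ((congrArg _ h).trans (e a'))
    have h0 : sGerm (ProEtS.eps X) (Scheme.ProEt.topology X) F b x =
        sGerm (ProEtS.eps X) (Scheme.ProEt.topology X) F b 0 := hinj (by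
      refine (NatTrans.naturality_apply k.hom b.op _).trans ((congrArg _ (tri V x)).trans (hx.trans ?_))
      refine Eq.trans ?_ ((NatTrans.naturality_apply k.hom b.op _).trans (congrArg _ (tri V 0))).symm
      exact (map_zero _).symm)
    obtain ⟨W, c, v, hv, hc⟩ := sGerm_agree F b x 0 h0 z
    exact ⟨W, c, v, hv, hc.trans (map_zero _)⟩

/-- constancy on the etale site passes to the pullback -/
theorem constAt_eps {H : EtModW.ModP Λ X} (hH : (ProEtS.epsPull X).essImage ((UP Λ).obj H)) {U : X.Etale}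
    {M : ModuleCat.{u + 1} Λ} {ψ : M ⟶ H.obj.obj (op ((ProEtS.eps X).obj U))}
    (h : ConstAt ((epsPushMod Λ).obj H) (U := U) ψ) : ConstAt H ψ where
  inj T t m hm hne := bot_of_isEmpty T ⟨fun z => by
    obtain ⟨W, c, v, -, hc⟩ := (pull_sections hH).2 T U t (ψ m) hm z
    obtain ⟨W', g, w, hg, -⟩ := (EtFound.mem_topology_iff _).1 (h.inj c m hc hne) v
    exact hg.elim⟩
  surj T t s := by
    let R : Sieve T :=
      { arrows := fun T' g => ∃ m : M, H.obj.map g.op s = H.obj.map (g ≫ t).op (ψ m)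
        downward_closed := by
          rintro Y Z g ⟨m, hm⟩ e
          exact ⟨m, by rw [← map_map e g, hm, map_map, Category.assoc]⟩ }
    refine ⟨R, ?_, fun _ _ h => h⟩
    obtain ⟨R₁, hR₁, hR₁'⟩ := (pull_sections hH).1 T s
    refine (Scheme.ProEt.topology X).transitive hR₁ R fun T' f hf => ?_
    obtain ⟨V, b, x, hx⟩ := hR₁' f hf
    have : Etale U.hom := U.prop
    have : Etale V.hom := V.prop
    let L : X.Etale := Scheme.Etale.mk (pullback.fst V.hom U.hom ≫ V.hom)
    let q₁ : L ⟶ V := MorphismProperty.Over.homMk (pullback.fst V.hom U.hom)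
    let q₂ : L ⟶ U := MorphismProperty.Over.homMk (pullback.snd V.hom U.hom) pullback.condition.symm
    let l : T' ⟶ (ProEtS.eps X).obj L := MorphismProperty.Over.homMk
      (pullback.lift b.left (f ≫ t).left ((MorphismProperty.Over.w b).trans (MorphismProperty.Over.w (f ≫ t)).symm))
      (by change _ ≫ pullback.fst _ _ ≫ V.hom = _
          rw [pullback.lift_fst_assoc]; exact MorphismProperty.Over.w b)
    have hl₁ : l ≫ (ProEtS.eps X).map q₁ = b := MorphismProperty.Over.Hom.ext (pullback.lift_fst _ _ _)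
    have hl₂ : l ≫ (ProEtS.eps X).map q₂ = f ≫ t := MorphismProperty.Over.Hom.ext (pullback.lift_snd _ _ _)
    let y : H.obj.obj (op ((ProEtS.eps X).obj L)) := H.obj.map ((ProEtS.eps X).map q₁).op x
    obtain ⟨R₂, hR₂, hR₂'⟩ := h.surj q₂ y
    refine (Scheme.ProEt.topology X).superset_covering ?_
      ((Scheme.ProEt.topology X).pullback_stable l (eps_pushforward_mem hR₂))
    rintro Z e ⟨W, g, a, hg, he⟩
    obtain ⟨m, hm⟩ := hR₂' g hg
    refine ⟨m, ?_⟩
    have hm' : H.obj.map ((ProEtS.eps X).map g).op y = H.obj.map ((ProEtS.eps X).map (g ≫ q₂)).op (ψ m) := hm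
    calc H.obj.map (e ≫ f).op s = H.obj.map e.op (H.obj.map f.op s) := (map_map _ _ _).symm
      _ = H.obj.map (e ≫ l).op y :=
        (congrArg _ hx.symm).trans ((map_map _ _ _).trans
          ((congrArg (fun k : Z ⟶ (ProEtS.eps X).obj V => H.obj.map k.op x)
            (show e ≫ b = (e ≫ l) ≫ (ProEtS.eps X).map q₁ by rw [Category.assoc, hl₁])).trans
            (map_map (e ≫ l) _ x).symm))
      _ = H.obj.map a.op (H.obj.map ((ProEtS.eps X).map g).op y) :=
        (congrArg (fun k : Z ⟶ (ProEtS.eps X).obj L => H.obj.map k.op y) he).trans (map_map _ _ _).symm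
      _ = H.obj.map a.op (H.obj.map ((ProEtS.eps X).map (g ≫ q₂)).op (ψ m)) := by rw [hm']
      _ = H.obj.map ((e ≫ f) ≫ t).op (ψ m) := by
        rw [map_map, Functor.map_comp, ← reassoc_of% he, hl₂, Category.assoc]

theorem isFPLocConstP_pull {F : EtModW.Mod Λ X} (h : EtModW.IsFPLocConst Λ F) :
    EtModW.IsFPLocConstP Λ ((EtModW.epsPullMod Λ X).obj F) := by
  obtain ⟨ι, U, hU, hU'⟩ := h
  refine ⟨ι, fun i => (ProEtS.eps X).obj (U i), coversP_eps hU, fun i => ?_⟩
  obtain ⟨M, _, _, hM, ⟨e⟩⟩ := hU' i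
  obtain ⟨φ, hφ⟩ := exists_constAt_of_iso e
  obtain ⟨hu, hess⟩ := isIso_unit_mod F
  refine ⟨M, _, _, hM, ?_⟩
  let ψ : ModuleCat.of Λ M ⟶ ((EtModW.epsPullMod Λ X).obj F).obj.obj (op ((ProEtS.eps X).obj (U i))) :=
    φ ≫ ((epsModAdj Λ).unit.app F).hom.app (op (U i))
  refine nonempty_iso_of_constAt (H := (EtModW.epsPullMod Λ X).obj F) (φ := ψ) (constAt_eps hess ?_)
  let θ := (epsModAdj Λ).unit.app F
  haveI : IsIso θ := hu
  haveI : IsIso θ.hom := inferInstanceAs (IsIso ((sheafToPresheaf _ _).map θ))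
  have hb : ∀ W, Function.Bijective (θ.hom.app W) := fun W => ConcreteCategory.bijective_of_isIso _
  refine ⟨fun T t m hm hne => hφ.inj t m ((hb (op T)).1 ?_) hne, fun T t s => ?_⟩
  · rw [map_zero]
    exact (NatTrans.naturality_apply θ.hom t.op (φ m)).trans hm
  · obtain ⟨s₀, rfl⟩ := (hb (op T)).2 s
    obtain ⟨R, hR, hR'⟩ := hφ.surj t s₀
    refine ⟨R, hR, fun T' g hg => ?_⟩
    obtain ⟨m, hm⟩ := hR' g hg
    refine ⟨m, ?_⟩
    exact (NatTrans.naturality_apply θ.hom g.op s₀).symm.trans
      ((congrArg _ hm).trans (NatTrans.naturality_apply θ.hom (g ≫ t).op (φ m)))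

end Groth.Agent.EtModLib
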