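import Groth.Agent.EtModLib.PLC.Nhd
import Groth.Agent.EtModLib.PLC.Pull

/-! Locally constant finitely presented pro-etale sheaves come from the etale site. -/

universe u

open CategoryTheory CategoryTheory.Limits AlgebraicGeometry Opposite

noncomputable section

set_option backward.isDefEq.respectTransparency false
set_option backward.isDefEq.respectTransparency.types false

namespace Groth.Agent.EtModLib

open ProEtLib

variable {Λ : Type (u + 1)} [CommRing Λ] {X : Scheme.{u}} [ProEtS.EpsCont X]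

theorem constAt_push {G : EtModW.ModP Λ X} {U : X.Etale} {M : ModuleCat.{u + 1} Λ}
    {ψ : M ⟶ G.obj.obj (op ((ProEtS.eps X).obj U))} (h : ConstAt G ψ) :
    ConstAt ((epsPushMod Λ).obj G) (U := U) ψ where
  inj T t m hm hne := by
    have hT := isEmpty_of_bot (h.inj ((ProEtS.eps X).map t) m hm hne)
    rw [EtFound.mem_topology_iff]
    exact fun z => (hT.false z).elim
  surj T t s := by
    let R : Sieve T :=
      { arrows := fun T' g => ∃ m : M, ((epsPushMod Λ).obj G).obj.map g.op s =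
          ((epsPushMod Λ).obj G).obj.map (g ≫ t).op (ψ m)
        downward_closed := by
          rintro Y Z g ⟨m, hm⟩ e
          exact ⟨m, by rw [← map_map e g, hm, map_map, Category.assoc]⟩ }
    refine ⟨R, ?_, fun _ _ h => h⟩
    rw [EtFound.mem_topology_iff]
    intro z
    obtain ⟨A, hA, hz, -⟩ := exists_isAffineOpen_mem_and_subset (show z ∈ (⊤ : T.left.Opens) from trivial)
    have : Etale T.hom := T.prop
    let T₁ : X.Etale := Scheme.Etale.mk (A.ι ≫ T.hom)
    let j : T₁ ⟶ T := MorphismProperty.Over.homMk A.ι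
    have : IsAffine ((ProEtS.eps X).obj T₁).left := hA
    obtain ⟨n, E, m, hcov, -, -, hE⟩ := exists_const_opens h ((ProEtS.eps X).map (j ≫ t))
      (G.obj.map ((ProEtS.eps X).map j).op s)
    obtain ⟨k, hk⟩ := hcov ⟨z, hz⟩
    let E' : T₁.left.Opens := E k
    have : Etale T₁.hom := T₁.prop
    let W : X.Etale := Scheme.Etale.mk (E'.ι ≫ T₁.hom)
    let e : W ⟶ T₁ := MorphismProperty.Over.homMk E'.ι
    let r : (ProEtS.eps X).obj W ⟶ opObj ((ProEtS.eps X).obj T₁) (E k) :=
      MorphismProperty.Over.homMk (𝟙 _) (Category.id_comp _)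
    have hr : r ≫ opHom ((ProEtS.eps X).obj T₁) (E k) = (ProEtS.eps X).map e :=
      MorphismProperty.Over.Hom.ext (Category.id_comp _)
    refine ⟨W, e ≫ j, ⟨⟨z, hz⟩, hk⟩, ⟨m k, ?_⟩, rfl⟩
    change G.obj.map ((ProEtS.eps X).map (e ≫ j)).op s = G.obj.map ((ProEtS.eps X).map ((e ≫ j) ≫ t)).op (ψ (m k))
    have e₁ : r ≫ opHom ((ProEtS.eps X).obj T₁) (E k) ≫ (ProEtS.eps X).map j = (ProEtS.eps X).map (e ≫ j) := by
      rw [← Category.assoc, hr, Functor.map_comp]
    have e₂ : r ≫ opHom ((ProEtS.eps X).obj T₁) (E k) ≫ (ProEtS.eps X).map (j ≫ t) =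
        (ProEtS.eps X).map ((e ≫ j) ≫ t) := by
      rw [← Category.assoc, hr, ← Functor.map_comp, Category.assoc]
    refine (congrArg (fun f : (ProEtS.eps X).obj W ⟶ (ProEtS.eps X).obj T => G.obj.map f.op s) e₁.symm).trans ?_
    refine Eq.trans ?_ (congrArg (fun f : (ProEtS.eps X).obj W ⟶ (ProEtS.eps X).obj U => G.obj.map f.op (ψ (m k))) e₂)
    exact (map_map _ _ _).symm.trans ((congrArg _ ((map_map _ _ _).symm.trans (hE k))).trans (map_map _ _ _))

/-- every finitely presented locally constant pro-etale sheaf is pulled back from one on the etale site -/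
theorem exists_preimage_fpLocConst {G : EtModW.ModP Λ X} (hG : EtModW.IsFPLocConstP Λ G) :
    ∃ F : EtModW.Mod Λ X, EtModW.IsFPLocConst Λ F ∧ Nonempty ((EtModW.epsPullMod Λ X).obj F ≅ G) := by
  choose U y M ψ hy hM hψ using exists_constAt_nhd (lc_of_isFPLocConstP hG)
  have hU : EtCoh.Covers U := fun x => ⟨x, y x, hy x⟩
  let F := (epsPushMod Λ).obj G
  refine ⟨F, ⟨X, U, hU, fun x => ⟨M x, inferInstance, inferInstance, hM x,
    nonempty_iso_of_constAt (H := F) (U := U x) (M := M x) (φ := ψ x) (constAt_push (hψ x))⟩⟩, ?_⟩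
  let H := (EtModW.epsPullMod Λ X).obj F
  obtain ⟨hu, hess⟩ := isIso_unit_mod F
  let θ := (epsModAdj Λ).unit.app F
  haveI : IsIso θ := hu
  let k : H ⟶ G := (epsModAdj Λ).counit.app G
  let ψ' : ∀ x, M x ⟶ H.obj.obj (op ((ProEtS.eps X).obj (U x))) := fun x => ψ x ≫ θ.hom.app (op (U x))
  have hψ' : ∀ x, ConstAt H (ψ' x) := fun x => by
    haveI : IsIso θ.hom := inferInstanceAs (IsIso ((sheafToPresheaf _ _).map θ))
    have hb : ∀ W, Function.Bijective (θ.hom.app W) := fun W => ConcreteCategory.bijective_of_isIso _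
    have h := constAt_push (hψ x)
    refine constAt_eps hess ⟨fun T t m hm hne => h.inj t m ((hb (op T)).1 ?_) hne, fun T t s => ?_⟩
    · rw [map_zero]
      exact (NatTrans.naturality_apply θ.hom t.op (ψ x m)).trans hm
    · obtain ⟨s₀, rfl⟩ := (hb (op T)).2 s
      obtain ⟨R, hR, hR'⟩ := h.surj t s₀
      refine ⟨R, hR, fun T' g hg => ?_⟩
      obtain ⟨m, hm⟩ := hR' g hg
      exact ⟨m, (NatTrans.naturality_apply θ.hom g.op s₀).symm.trans
        ((congrArg _ hm).trans (NatTrans.naturality_apply θ.hom (g ≫ t).op (ψ x m)))⟩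
  have hk : ∀ x (Z : X.ProEt) (b : Z ⟶ (ProEtS.eps X).obj (U x)) (m : M x),
      k.hom.app (op Z) (H.obj.map b.op (ψ' x m)) = G.obj.map b.op (ψ x m) := fun x Z b m => by
    refine (NatTrans.naturality_apply k.hom b.op _).trans (congrArg _ ?_)
    exact congrArg (fun f : F ⟶ F => f.hom.app (op (U x)) (ψ x m)) ((epsModAdj Λ).right_triangle_components G)
  have hcov : ∀ T : X.ProEt, ∀ R : Sieve T, (∀ ⦃T' : X.ProEt⦄ (g : T' ⟶ T) x (_ : T' ⟶ (ProEtS.eps X).obj (U x)),
      R.pullback g ∈ Scheme.ProEt.topology X T') → R ∈ Scheme.ProEt.topology X T := fun T R h => by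
    let top : T ⟶ ProEtS.topP X := MorphismProperty.Over.homMk T.hom (Category.comp_id _)
    refine (Scheme.ProEt.topology X).transitive ((Scheme.ProEt.topology X).pullback_stable top (coversP_eps hU)) R
      fun T' g hg => ?_
    obtain ⟨Z, a, b, ⟨x⟩, -⟩ := hg
    exact h g x a
  have : IsIso k := by
    refine (Sheaf.isLocallyBijective_iff_isIso _).1 ⟨⟨fun {T} p q hpq => ?_⟩, ⟨fun {T} s => ?_⟩⟩
    · refine hcov _ _ fun T' g x a => ?_
      obtain ⟨S, hS, hS'⟩ := (hψ' x).surj a (H.obj.map g.op (p - q))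
      refine (Scheme.ProEt.topology X).superset_covering (fun Z e he => ?_) hS
      change H.obj.map (e ≫ g).op p = H.obj.map (e ≫ g).op q
      obtain ⟨m, hm⟩ := hS' e he
      by_cases hZ : IsEmpty Z.left
      · exact subsingleton_of_bot (H := H) (bot_of_isEmpty Z hZ) _ _
      · obtain ⟨z⟩ := not_isEmpty_iff.1 hZ
        rw [← sub_eq_zero, ← map_sub, ← map_map, hm]
        have h0 : m = 0 := (hψ x).eq_of_point (e ≫ a) z (by
          rw [map_zero, map_zero, ← hk x Z (e ≫ a) m, ← hm, map_map, map_sub, map_sub,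
            NatTrans.naturality_apply k.hom (e ≫ g).op p, NatTrans.naturality_apply k.hom (e ≫ g).op q, hpq, sub_self])
        rw [h0, map_zero, map_zero]
    · refine hcov _ _ fun T' g x a => ?_
      obtain ⟨S, hS, hS'⟩ := (hψ x).surj a (G.obj.map g.op s)
      refine (Scheme.ProEt.topology X).superset_covering (fun Z e he => ?_) hS
      obtain ⟨m, hm⟩ := hS' e he
      exact ⟨H.obj.map (e ≫ a).op (ψ' x m), (hk x Z (e ≫ a) m).trans (hm.symm.trans (map_map e g s))⟩
  exact ⟨asIso k⟩

end Groth.Agent.EtModLib
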