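import Groth.Agent.EtModLib.PLC.Spread
import Groth.Agent.ProEtLib.EpsColim
import Groth.Agent.ProEtLib.EpsVanish

/-! Locally constant finitely presented pro-etale sheaves are constant on etale neighbourhoods. -/

universe u

open CategoryTheory CategoryTheory.Limits AlgebraicGeometry Opposite

noncomputable section

set_option backward.isDefEq.respectTransparency false
set_option backward.isDefEq.respectTransparency.types false

namespace Groth.Agent.EtModLib

open ProEtLib ProStage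

variable {Λ : Type (u + 1)} [CommRing Λ] {X : Scheme.{u}}

theorem isPro_open {U₀ : X.Etale} [IsAffine U₀.left] {V : X.ProEt} {w : V ⟶ (ProEtS.eps X).obj U₀}
    (hV : IsPro (ovS w)) (W : V.left.Opens) (hW : IsClosed (W : Set ↥V.left)) :
    IsPro (ovS (opHom V W ≫ w)) := by
  have : IsAffine V.left := hV.isAffine
  have hA : IsAffine (opObj V W).left := isAffine_opObj_of_isClosed W hW
  have : IsAffine (ovS (opHom V W ≫ w)).left := hA
  refine isPro_of_isIndEtale ?_
  letI : Algebra Γ(U₀.left, ⊤) Γ(V.left, ⊤) := (ovS w).hom.appTop.hom.toAlgebra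
  letI : Algebra Γ(U₀.left, ⊤) Γ((opObj V W).left, ⊤) := (ovS (opHom V W ≫ w)).hom.appTop.hom.toAlgebra
  letI : Algebra Γ(V.left, ⊤) Γ((opObj V W).left, ⊤) := (opHom V W).left.appTop.hom.toAlgebra
  have htow : IsScalarTower Γ(U₀.left, ⊤) Γ(V.left, ⊤) Γ((opObj V W).left, ⊤) :=
    IsScalarTower.of_algebraMap_eq fun r =>
      ConcreteCategory.congr_hom (Scheme.Hom.comp_appTop (opHom V W).left (show V.left ⟶ U₀.left from w.left)) r
  refine S0734.result Γ(U₀.left, ⊤) Γ(V.left, ⊤) Γ((opObj V W).left, ⊤) hV.isIndEtale ?_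
  have hE : Etale (opHom V W).left := inferInstanceAs (Etale W.ι)
  have hEt : Algebra.Etale Γ(V.left, ⊤) Γ((opObj V W).left, ⊤) :=
    RingHom.etale_algebraMap.1 ((HasRingHomProperty.appTop @Etale (opHom V W).left hE :))
  exact IndEtLib.isIndEtale_of_factor fun Q _ _ _ φ =>
    ⟨_, inferInstance, inferInstance, hEt, φ, AlgHom.id _ _, AlgHom.id_comp _⟩

theorem exists_constAt_nhd [ProEtS.EpsCont X] {G : EtModW.ModP Λ X} (hG : LC G) (x : X) :
    ∃ (U : X.Etale) (y : U.left) (M : ModuleCat.{u + 1} Λ) (ψ : M ⟶ G.obj.obj (op ((ProEtS.eps X).obj U))),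
      U.hom.base y = x ∧ Module.FinitePresentation Λ M ∧ ConstAt G ψ := by
  obtain ⟨O, hO, hx, -⟩ := exists_isAffineOpen_mem_and_subset (show x ∈ (⊤ : X.Opens) from trivial)
  let U₀ : X.Etale := Scheme.Etale.mk O.ι
  have : IsAffine U₀.left := hO
  have : IsAffine ((ProEtS.eps X).obj U₀).left := hO
  obtain ⟨V, g, hg, hcr, hV⟩ := exists_pro_cover (U₀ := U₀) (w := 𝟙 ((ProEtS.eps X).obj U₀)) (isPro_id U₀)
  obtain ⟨R, hR, hR'⟩ := hG V
  obtain ⟨n, W, hclo, -, hcov, hW⟩ := hcr R hR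
  obtain ⟨Z, f, z, ⟨Z', a, _, ⟨⟩, rfl⟩, hz⟩ := exists_hit hg ⟨x, hx⟩
  obtain ⟨k, hk⟩ := Set.mem_iUnion.1 (hcov.symm ▸ Set.mem_univ (a.left.base z))
  obtain ⟨M, φ, hM, hφ⟩ := hR' _ (hW k)
  let w : opObj V (W k) ⟶ (ProEtS.eps X).obj U₀ := opHom V (W k) ≫ g ≫ 𝟙 _
  have hP : IsPro (ovS w) := isPro_open hV (W k) (hclo k).isClosed
  let D : StructuredArrow (ovS w) (toOv U₀.left) ⥤ X.ProEt :=
    StructuredArrow.proj _ (toOv U₀.left) ⋙ toX U₀ ⋙ ProEtS.eps X
  let c : Cone D :=
    { pt := opObj V (W k)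
      π :=
        { app := fun a => sMap a
          naturality := fun a b g => (Category.id_comp _).trans (sMap_map g).symm } }
  have hc : IsLimit (schCone c) := hP.isLimit.some
  haveI : ∀ j, IsAffine (D.obj j).left := fun j => isAffine_toOv j.right
  obtain ⟨j, ψ, hψ⟩ := exists_spread hG hc IsCofiltered.nonempty.some hφ
  refine ⟨(toX U₀).obj j.right, (sMap j).left.base ⟨a.left.base z, hk⟩, M, ψ, ?_, hM, hψ⟩
  have h1 := MorphismProperty.Over.w (sMap j)
  refine (congrArg (fun e : (opObj V (W k)).left ⟶ X => e.base ⟨a.left.base z, hk⟩) h1).trans ?_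
  have h2 : (opObj V (W k)).hom = (W k).ι ≫ g.left ≫ O.ι := by
    change (W k).ι ≫ V.hom = _
    rw [← MorphismProperty.Over.w g]
    rfl
  rw [h2]
  exact congrArg (fun q : O.toScheme => (O.ι.base q : X)) hz

end Groth.Agent.EtModLib
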