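import Groth.Agent.EtModLib.PLC.Lift
import Mathlib.Algebra.Module.FinitePresentation

/-! A finitely presented constant sheaf on a limit is constant at a stage. -/

universe u

open CategoryTheory CategoryTheory.Limits AlgebraicGeometry Opposite

noncomputable section

set_option backward.isDefEq.respectTransparency false
set_option backward.isDefEq.respectTransparency.types false

namespace Groth.Agent.EtModLib

open ProEtLib

variable {Λ : Type (u + 1)} [CommRing Λ] {X : Scheme.{u}}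

theorem exists_lift_map {G : EtModW.ModP Λ X} (hG : LC G) {I : Type u} [SmallCategory I] [IsCofiltered I]
    {D : I ⥤ X.ProEt} [∀ j, IsAffine (D.obj j).left] {c : Cone D} (hc : IsLimit (schCone c)) (i : I)
    {M : ModuleCat.{u + 1} Λ} [Module.FinitePresentation Λ M] (φ : M ⟶ G.obj.obj (op c.pt)) :
    ∃ (j : I) (_ : j ⟶ i) (ψ : M ⟶ G.obj.obj (op (D.obj j))), ψ ≫ G.obj.map (c.π.app j).op = φ := by
  classical
  obtain ⟨n, m, f, g, hf, hfg⟩ := Module.FinitePresentation.exists_fin' Λ M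
  obtain ⟨j₁, a₁, x, hx⟩ := exists_lift_family hG hc i fun k => φ (f (Pi.single k 1))
  let L : (Fin n → Λ) →ₗ[Λ] G.obj.obj (op (D.obj j₁)) := Fintype.linearCombination Λ x
  have hL : (G.obj.map (c.π.app j₁).op).hom.comp L = φ.hom.comp f := LinearMap.pi_ext fun k r => by
    simp only [LinearMap.comp_apply, L, Fintype.linearCombination_apply_single, map_smul]
    rw [show Pi.single (M := fun _ : Fin n => Λ) k r = r • Pi.single k 1 by
      rw [← Pi.single_smul, smul_eq_mul, mul_one], map_smul]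
    exact congrArg (r • ·) (hx k)
  obtain ⟨j, a, ha⟩ := exists_kill_family hG hc (fun k : Fin m => L (g (Pi.single k 1))) fun k =>
    (LinearMap.congr_fun hL _).trans ((congrArg φ.hom (hfg.apply_apply_eq_zero _)).trans (map_zero _))
  let L' : (Fin n → Λ) →ₗ[Λ] G.obj.obj (op (D.obj j)) := (G.obj.map (D.map a).op).hom.comp L
  have hker : LinearMap.ker f ≤ LinearMap.ker L' := by
    rw [hfg.linearMap_ker_eq, LinearMap.range_le_ker_iff]
    refine LinearMap.pi_ext fun k r => ?_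
    rw [show Pi.single (M := fun _ : Fin m => Λ) k r = r • Pi.single k 1 by
      rw [← Pi.single_smul, smul_eq_mul, mul_one], map_smul, map_smul, LinearMap.zero_apply]
    exact congrArg (r • ·) (ha k)
  let ψ : M ⟶ G.obj.obj (op (D.obj j)) := ModuleCat.ofHom
    (((LinearMap.ker f).liftQ L' hker).comp (f.quotKerEquivOfSurjective hf).symm.toLinearMap)
  refine ⟨j, a ≫ a₁, ψ, ModuleCat.hom_ext (LinearMap.ext fun y => ?_)⟩
  obtain ⟨v, rfl⟩ := hf y
  have hv : (f.quotKerEquivOfSurjective hf).symm (f v) = Submodule.Quotient.mk v :=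
    (LinearEquiv.symm_apply_eq _).2 (LinearMap.quotKerEquivOfSurjective_apply_mk f hf v).symm
  change G.obj.map (c.π.app j).op (((LinearMap.ker f).liftQ L' hker) ((f.quotKerEquivOfSurjective hf).symm (f v))) = _
  rw [hv, Submodule.liftQ_apply]
  refine (map_map _ _ _).trans ?_
  exact (congrArg (fun e => G.obj.map (Quiver.Hom.op e) (L v)) (c.w a)).trans (LinearMap.congr_fun hL v)

/-- a family of sections is locally a family of constants for some finitely presented value -/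
theorem exists_comparison_sieve {G : EtModW.ModP Λ X} (hG : LC G) {T : X.ProEt} {M : ModuleCat.{u + 1} Λ}
    [Module.Finite Λ M] (ψ : M ⟶ G.obj.obj (op T)) :
    ∃ R ∈ Scheme.ProEt.topology X T, ∀ ⦃T' : X.ProEt⦄ (q : T' ⟶ T), R q →
      ∃ (M' : ModuleCat.{u + 1} Λ) (φ' : M' ⟶ G.obj.obj (op T')) (h : M ⟶ M'),
        ConstAt G φ' ∧ ∀ m, G.obj.map q.op (ψ m) = φ' (h m) := by
  classical
  obtain ⟨n, f, hf⟩ := Module.Finite.exists_fin' Λ M
  let R : Sieve T :=
    { arrows := fun T' q => ∃ (M' : ModuleCat.{u + 1} Λ) (φ' : M' ⟶ G.obj.obj (op T')) (h : M ⟶ M'),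
        ConstAt G φ' ∧ ∀ m, G.obj.map q.op (ψ m) = φ' (h m)
      downward_closed := by
        rintro Y Z q ⟨M', φ', h, hφ', hh⟩ k
        exact ⟨M', φ' ≫ G.obj.map k.op, h, hφ'.restrict k, fun m =>
          (map_map k q (ψ m)).symm.trans (congrArg (G.obj.map k.op) (hh m))⟩ }
  refine ⟨R, ?_, fun _ _ h => h⟩
  obtain ⟨R₁, hR₁, hR₁'⟩ := hG T
  refine (Scheme.ProEt.topology X).transitive hR₁ R fun T' q hq => ?_
  obtain ⟨M', φ', -, hφ'⟩ := hR₁' q hq
  have h2 : ∀ k : Fin n, ∃ S ∈ Scheme.ProEt.topology X T', ∀ ⦃Z : X.ProEt⦄ (e : Z ⟶ T'), S e →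
      ∃ m' : M', G.obj.map e.op (G.obj.map q.op (ψ (f (Pi.single k 1)))) = G.obj.map e.op (φ' m') := fun k => by
    obtain ⟨S, hS, hS'⟩ := hφ'.surj (𝟙 T') (G.obj.map q.op (ψ (f (Pi.single k 1))))
    refine ⟨S, hS, fun Z e he => ?_⟩
    obtain ⟨m', hm'⟩ := hS' e he
    exact ⟨m', by rwa [Category.comp_id] at hm'⟩
  choose S hS hS' using h2
  have hI : ∀ (t : Finset (Fin n)), ∃ S₀ ∈ Scheme.ProEt.topology X T', ∀ k ∈ t, S₀ ≤ S k := fun t => by
    induction t using Finset.induction_on with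
    | empty => exact ⟨⊤, (Scheme.ProEt.topology X).top_mem _, fun k hk => (Finset.notMem_empty k hk).elim⟩
    | insert k t _ ih =>
      obtain ⟨S₀, h₀, hle⟩ := ih
      refine ⟨S k ⊓ S₀, (Scheme.ProEt.topology X).intersection_covering (hS k) h₀, fun l hl => ?_⟩
      rcases Finset.mem_insert.1 hl with rfl | hl
      · exact inf_le_left
      · exact inf_le_right.trans (hle l hl)
  obtain ⟨S₀, h₀, hle⟩ := hI Finset.univ
  refine (Scheme.ProEt.topology X).superset_covering (fun Z e he => ?_) h₀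
  change ∃ (M'' : ModuleCat.{u + 1} Λ) (φ'' : M'' ⟶ G.obj.obj (op Z)) (h : M ⟶ M''), ConstAt G φ'' ∧
    ∀ m, G.obj.map (e ≫ q).op (ψ m) = φ'' (h m)
  let θ : M' ⟶ G.obj.obj (op Z) := φ' ≫ G.obj.map e.op
  by_cases hZ : IsEmpty Z.left
  · exact ⟨M', θ, 0, hφ'.restrict e, fun m => subsingleton_of_bot (H := G) (bot_of_isEmpty Z hZ) _ _⟩
  obtain ⟨z⟩ := not_isEmpty_iff.1 hZ
  have hinj : Function.Injective θ.hom := hφ'.injective e (nonempty_not_bot z)
  have hmem : ∀ m : M, G.obj.map (e ≫ q).op (ψ m) ∈ LinearMap.range θ.hom := fun m => by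
    obtain ⟨v, rfl⟩ := hf m
    have hle' : (⊤ : Submodule Λ (Fin n → Λ)) ≤ (LinearMap.range θ.hom).comap
        ((G.obj.map (e ≫ q).op).hom.comp (ψ.hom.comp f)) := by
      rw [← (Pi.basisFun Λ (Fin n)).span_eq, Submodule.span_le]
      rintro _ ⟨k, rfl⟩
      obtain ⟨m', hm'⟩ := hS' k e (hle k (Finset.mem_univ k) _ he)
      rw [Pi.basisFun_apply]
      exact ⟨m', hm'.symm.trans (map_map e q _)⟩
    exact hle' (Submodule.mem_top (x := v))
  let E := LinearEquiv.ofInjective θ.hom hinj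
  let h : M ⟶ M' := ModuleCat.ofHom (E.symm.toLinearMap.comp
    (((G.obj.map (e ≫ q).op).hom.comp ψ.hom).codRestrict (LinearMap.range θ.hom) hmem))
  refine ⟨M', θ, h, hφ'.restrict e, fun m => ?_⟩
  exact (congrArg Subtype.val (E.apply_symm_apply ⟨_, hmem m⟩)).symm

/-- a finitely presented constant sheaf on the limit is constant at a stage -/
theorem exists_spread {G : EtModW.ModP Λ X} (hG : LC G) {I : Type u} [SmallCategory I] [IsCofiltered I]
    {D : I ⥤ X.ProEt} [∀ j, IsAffine (D.obj j).left] {c : Cone D} (hc : IsLimit (schCone c)) (i : I)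
    {M : ModuleCat.{u + 1} Λ} [Module.FinitePresentation Λ M] {φ : M ⟶ G.obj.obj (op c.pt)} (hφ : ConstAt G φ) :
    ∃ (j : I) (ψ : M ⟶ G.obj.obj (op (D.obj j))), ConstAt G ψ := by
  classical
  obtain ⟨j₁, -, ψ, hψ⟩ := exists_lift_map hG hc i φ
  obtain ⟨R, hR, hR'⟩ := exists_comparison_sieve hG ψ
  obtain ⟨n, P, p, hP, hRp, hcov⟩ := exists_pieces (D.obj j₁) hR
  choose M' φ' h hφ' hh using fun k => hR' (p k) (hRp k)
  have stage : ∀ k, ∃ (j : I) (a : j ⟶ j₁), Function.Bijective (h k) ∨ IsEmpty (pbObj (p k) (D.map a)).left :=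
    fun k => by
    by_cases hb : Function.Bijective (h k)
    · exact ⟨j₁, 𝟙 _, Or.inl hb⟩
    · obtain ⟨j, a, hja⟩ := exists_isEmpty_pbObj (p k) hc ⟨fun z => hb (by
        let q₁ : pbObj (p k) (c.π.app j₁) ⟶ P k := pbFst _ _
        let q₂ : pbObj (p k) (c.π.app j₁) ⟶ c.pt := pbSnd _ _
        have hq : ∀ m, G.obj.map q₁.op (φ' k (h k m)) = G.obj.map q₂.op (φ m) := fun m => by
          rw [← hh k m, map_map, pb_condition, ← map_map]
          exact congrArg _ (congrArg (fun e => (ConcreteCategory.hom e) m) hψ)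
        refine ⟨fun x y hxy => hφ.eq_of_point q₂ z ?_, fun m' => ?_⟩
        · rw [← hq, ← hq, hxy]
        · obtain ⟨S, hS, hS'⟩ := hφ.surj q₂ (G.obj.map q₁.op (φ' k m'))
          obtain ⟨Z, e, v, he, -⟩ := exists_hit hS z
          obtain ⟨m, hm⟩ := hS' e he
          refine ⟨m, ((hφ' k).eq_of_point (e ≫ q₁) v ?_).symm⟩
          rw [← map_map, hm, ← map_map, ← hq, map_map])⟩
      exact ⟨j, a, Or.inr hja⟩
  choose j a ha using stage
  obtain ⟨j₀, a₀, h₀⟩ := exists_common j a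
  refine ⟨j₀, ψ ≫ G.obj.map (D.map a₀).op,
    ConstAt.of_sieve ((Scheme.ProEt.topology X).pullback_stable (D.map a₀) hcov) ?_⟩
  rintro T g ⟨Z, e, _, ⟨k⟩, he⟩
  obtain ⟨b, hb⟩ := h₀ k
  rcases ha k with hk | hk
  · refine ((hφ' k).restrict e).congr (h k) hk fun m => ?_
    change G.obj.map g.op (G.obj.map (D.map a₀).op (ψ m)) = G.obj.map e.op (φ' k (h k m))
    rw [map_map, ← he, ← map_map, hh k m]
  · exact constAt_of_bot (H := G) _ (bot_of_isEmpty T ⟨fun z => hk.false ((pbLift e (g ≫ D.map b) (by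
      rw [he, Category.assoc, ← Functor.map_comp, hb]) : T ⟶ pbObj (p k) (D.map (a k))).left.base z)⟩)

end Groth.Agent.EtModLib
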